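import Cfsg.Agent.DihedralEdge.Shift
import Mathlib.GroupTheory.IndexNormal

/-!
# The length of a shift sequence is at most 4 (Tutte, Sims)

In the situation of `Setting`, with `lam` the first gap of two non-commuting members of the
sequence, the centre of a window of length `l ≥ lam` is the middle window of length `2 lam - l`;
`c` centralizes the middle of `Z(P)`, so `2 lam - m ≤ 2`, and the two descriptions of the
commutator `[x 0, x lam]` leave only the orders 4, 8 and 16.
-/

set_option autoImplicit false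
set_option maxHeartbeats 400000
set_option linter.unusedSectionVars false

namespace CfsgLib.DihedralEdge

open scoped Pointwise

variable {G : Type*} [Group G] [Finite G] {H P Q : Subgroup G} {c y e g : G} {m : ℕ}

/-- The commutator of two members of the sequence. -/
def cm (g e : G) (m : ℕ) (i j : ℤ) : G :=
  seq g e m i * seq g e m j * seq g e m i * seq g e m j

namespace Shift

theorem mem_win_conj (s : Shift P g e m) {a b : ℤ} {l : ℕ} (k : ℤ) (hb : a + k = b) {z : G}
    (hz : z ∈ win P g m a l) : g ^ k * z * (g ^ k)⁻¹ ∈ win P g m b l := by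
  subst hb
  rw [← conjS_win]
  exact conj_mem_conjS hz

theorem conj_cm (_s : Shift P g e m) (k i j : ℤ) :
    g ^ k * cm g e m i j * (g ^ k)⁻¹ = cm g e m (i + k) (j + k) := by
  simp only [cm, ← conj_seq g e m k]
  group

/-- Members of gap less than `lam` commute. -/
def CommBelow (g e : G) (m lam : ℕ) : Prop :=
  ∀ i j : ℤ, i ≤ j → j < i + lam → Commute (seq g e m i) (seq g e m j)

theorem commBelow_of (s : Shift P g e m) {lam : ℕ}
    (h : ∀ d : ℕ, d < lam → Commute (seq g e m 0) (seq g e m d)) : CommBelow g e m lam := by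
  intro i j h1 h2
  obtain ⟨d, hd⟩ : ∃ d : ℕ, j = i + d := ⟨(j - i).toNat, by omega⟩
  have := s.commute_shift i (h d (by omega))
  rwa [zero_add, add_comm (d : ℤ) i, ← hd] at this

theorem win_commute (s : Shift P g e m) {lam : ℕ} (hc : CommBelow g e m lam) {a b : ℤ} {k n : ℕ}
    (hk : k ≤ m) (hn : n ≤ m) (h1 : b + n ≤ a + lam) (h2 : a + k ≤ b + lam) {z w : G}
    (hz : z ∈ win P g m a k) (hw : w ∈ win P g m b n) : Commute z w := by
  have h3 : win P g m b n ≤ Subgroup.centralizer (win P g m a k : Set G) := by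
    refine s.win_le hn fun j hj1 hj2 => ?_
    have h4 : win P g m a k ≤ Subgroup.centralizer {seq g e m j} := by
      refine s.win_le hk fun i hi1 hi2 => ?_
      rw [Subgroup.mem_centralizer_singleton_iff]
      rcases le_or_gt i j with hij | hij
      · exact (hc i j hij (by omega)).eq
      · exact (hc j i hij.le (by omega)).symm.eq
    rw [Subgroup.mem_centralizer_iff]
    exact fun u hu => Subgroup.mem_centralizer_singleton_iff.1 (h4 hu)
  exact h3 hw z hz

theorem win_mul_self (s : Shift P g e m) {lam : ℕ} (hc : CommBelow g e m lam) :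
    ∀ {l : ℕ}, l ≤ lam → l ≤ m → ∀ {a : ℤ} {z : G}, z ∈ win P g m a l → z * z = 1 := by
  intro l
  induction l with
  | zero => intro _ _ a z hz; rw [s.win_zero, Subgroup.mem_bot] at hz; rw [hz, mul_one]
  | succ l ih =>
    intro h1 h2 a z hz
    rcases s.cases_left h2 hz with h | h
    · exact ih (by omega) (by omega) h
    · have e1 := ih (by omega) (by omega) h
      have hcz : Commute (seq g e m a) z :=
        s.win_commute hc s.pos h2 (by omega) (by omega) (s.seq_mem_one a) hz
      calc z * z = seq g e m a * seq g e m a * (z * z) := by rw [s.seq_mul_self, one_mul]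
        _ = seq g e m a * (seq g e m a * z) * z := by group
        _ = seq g e m a * (z * seq g e m a) * z := by rw [hcz.eq]
        _ = seq g e m a * z * (seq g e m a * z) := by group
        _ = 1 := e1

theorem seq_commute_succ (s : Shift P g e m) (hm : 2 ≤ m) :
    Commute (seq g e m 0) (seq g e m 1) := by
  have hle := s.le_succ_right 0 (l := 1) hm
  have hn : (win P g m 0 (1 + 1)) ≤ Subgroup.normalizer (win P g m 0 1 : Set G) := by
    refine (Subgroup.normal_subgroupOf_iff_le_normalizer hle).1
      (Subgroup.normal_of_index_eq_two ?_)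
    have h1 := card_mul_relIndex hle
    rw [s.card_win 0 (by omega), s.card_win 0 hm] at h1
    show (win P g m 0 1).relIndex (win P g m 0 (1 + 1)) = 2
    omega
  have h1 := (Subgroup.mem_normalizer_iff.1 (hn (s.seq_mem hm (i := 1) (by omega) (by omega)))
    (seq g e m 0)).1 (s.seq_mem_one 0)
  rcases s.cases_left (l := 0) s.pos h1 with h | h
  · rw [s.win_zero, Subgroup.mem_bot, conj_eq_one_iff] at h
    exact absurd h (s.seq_ne 0)
  · rw [s.win_zero, Subgroup.mem_bot] at h
    have h2 := eq_inv_of_mul_eq_one_right h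
    rw [s.seq_inv 0, mul_inv_eq_iff_eq_mul] at h2
    exact h2.symm

/-- The centre of a window. -/
theorem win_center (s : Shift P g e m) {lam : ℕ} (hc : CommBelow g e m lam) (hlam : 1 ≤ lam)
    (hn : ¬ Commute (seq g e m 0) (seq g e m lam)) :
    ∀ l, lam ≤ l → l ≤ m → l < 2 * lam ∧ ∀ z ∈ win P g m 0 l,
      (∀ i : ℤ, 0 ≤ i → i < l → Commute z (seq g e m i)) →
        z ∈ win P g m ((l : ℤ) - lam) (2 * lam - l) := by
  have hn' : ∀ i : ℤ, ¬ Commute (seq g e m i) (seq g e m (i + lam)) := fun i h => hn (by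
    have := s.commute_shift (-i) h
    rwa [add_neg_cancel, show i + (lam : ℤ) + -i = lam by ring] at this)
  intro l hl
  induction l, hl using Nat.le_induction with
  | base =>
    intro _
    refine ⟨by omega, fun z hz _ => ?_⟩
    rwa [sub_self, show 2 * lam - lam = lam by omega]
  | succ l hll ih =>
    intro hlm
    obtain ⟨hl2, ih⟩ := ih (by omega)
    have main : ∀ z ∈ win P g m 0 (l + 1),
        (∀ i : ℤ, 0 ≤ i → i < ((l + 1 : ℕ) : ℤ) → Commute z (seq g e m i)) →
          z ∈ win P g m (((l + 1 : ℕ) : ℤ) - lam) (2 * lam - (l + 1)) := by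
      intro z hz hzc
      have hcl : Commute z (seq g e m l) := hzc l (by omega) (by omega)
      have hc0 : Commute z (seq g e m 0) := hzc 0 le_rfl (by omega)
      by_cases hA : z ∈ win P g m 0 l
      · have h := ih z hA fun i h1 h2 => hzc i h1 (by omega)
        rw [show 2 * lam - l = 2 * lam - (l + 1) + 1 by omega] at h
        rcases s.cases_left (by omega) h with h | h
        · rwa [show ((l + 1 : ℕ) : ℤ) - lam = (l : ℤ) - lam + 1 by push_cast; ring]
        · refine absurd ?_ (hn' ((l : ℤ) - lam))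
          rw [sub_add_cancel]
          have h2 := (s.win_commute hc (by omega) s.pos (by omega) (by omega) h
            (s.seq_mem_one (l : ℤ))).mul_left hcl.inv_left
          rwa [mul_inv_cancel_right] at h2
      by_cases hB : z ∈ win P g m 1 l
      · have hz' : g ^ (-1 : ℤ) * z * (g ^ (-1 : ℤ))⁻¹ ∈ win P g m 0 l :=
          s.mem_win_conj (-1) (by omega) hB
        have h := s.mem_win_conj (b := (l : ℤ) - lam + 1) 1 rfl (ih _ hz' fun i h1 h2 => by
          have h3 := hzc (i + 1) (by omega) (by omega)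
          rw [show i = i + 1 + -1 by omega, ← conj_seq g e m (-1) (i + 1)]
          exact (Commute.conj_iff _).2 h3)
        rw [show g ^ (1 : ℤ) * (g ^ (-1 : ℤ) * z * (g ^ (-1 : ℤ))⁻¹) * (g ^ (1 : ℤ))⁻¹ = z by
          group, show 2 * lam - l = 2 * lam - (l + 1) + 1 by omega] at h
        rcases s.cases_right (by omega) h with h | h
        · rwa [show ((l + 1 : ℕ) : ℤ) - lam = (l : ℤ) - lam + 1 by push_cast; ring]
        · refine absurd ?_ (hn' 0)
          rw [zero_add, show (lam : ℤ) = (l : ℤ) - lam + 1 + ((2 * lam - (l + 1) : ℕ) : ℤ) by omega]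
          have h2 := hc0.inv_left.mul_left (s.win_commute hc (by omega) s.pos (by omega)
            (by omega) h (s.seq_mem_one (0 : ℤ)))
          rw [inv_mul_cancel_left] at h2
          exact h2.symm
      · exfalso
        obtain ⟨r, hr⟩ : ∃ r, r = seq g e m ((l : ℤ) - lam) := ⟨_, rfl⟩
        have hr1 : Commute z r := hr ▸ hzc _ (by omega) (by omega)
        rcases s.cases_right hlm hz with h | h
        · exact hA h
        · rw [zero_add] at h
          refine hn' ((l : ℤ) - lam) ?_
          rw [sub_add_cancel, ← hr]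
          have hr2 : Commute r (z * seq g e m l) := s.win_commute hc s.pos (by omega) (by omega)
            (by omega) (hr ▸ s.seq_mem_one _) h
          have h2 := hr1.symm.inv_right.mul_right hr2
          rwa [inv_mul_cancel_left] at h2
    refine ⟨?_, main⟩
    by_contra hlt
    have : Fact (Nat.Prime 2) := ⟨Nat.prime_two⟩
    have : Nontrivial (win P g m 0 (l + 1)) := by
      rw [← Finite.one_lt_card_iff_nontrivial, s.card_win 0 hlm]
      exact Nat.one_lt_two_pow (by omega)
    have := (s.isPGroup_win 0 (l + 1)).center_nontrivial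
    obtain ⟨⟨⟨z, hz⟩, hzc⟩, hz1⟩ := exists_ne (1 : Subgroup.center (win P g m 0 (l + 1)))
    have h := main z hz fun i h1 h2 => (congrArg Subtype.val
      (Subgroup.mem_center_iff.1 hzc ⟨_, s.seq_mem hlm h1 (by omega)⟩)).symm
    rw [show 2 * lam - (l + 1) = 0 by omega, s.win_zero, Subgroup.mem_bot] at h
    exact hz1 (Subtype.ext (Subtype.ext h))

end Shift

namespace Setting

open Shift

theorem win_one (h : Setting H P Q c y) (s : Shift P (y * c) e m) :
    win P (y * c) m 1 (m - 1) = MulAut.conj y • Q := by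
  have hp := s.pos
  rw [← h.inter_g, win, show m - (m - 1) = 1 by omega,
    show (1 : ℤ) + ((m - 1 : ℕ) : ℤ) - m = 0 by omega, zpow_zero, conjS_one]
  rfl

theorem win_zero_eq (h : Setting H P Q c y) (s : Shift P (y * c) e m) :
    win P (y * c) m 0 (m - 1) = Q := by
  refine MulAction.injective (MulAut.conj (y * c)) ?_
  show MulAut.conj (y * c) • win P (y * c) m 0 (m - 1) = MulAut.conj (y * c) • Q
  rw [s.conjS_g, zero_add, h.win_one s, h.g_Q]

theorem win_neg (h : Setting H P Q c y) (s : Shift P (y * c) e m) :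
    win P (y * c) m (-1) m = MulAut.conj c⁻¹ • P := by
  refine MulAction.injective (MulAut.conj (y * c)) ?_
  show MulAut.conj (y * c) • win P (y * c) m (-1) m = MulAut.conj (y * c) • MulAut.conj c⁻¹ • P
  rw [s.conjS_g, show (-1 : ℤ) + 1 = 0 from rfl, s.win_top, ← conjS_mul, mul_inv_cancel_right,
    h.yP]

theorem le_of_gens (h : Setting H P Q c y) (s : Shift P (y * c) e m) {K : Subgroup G}
    (hK : ∀ i : ℤ, -1 ≤ i → i < m → seq (y * c) e m i ∈ K) : H ≤ K := by
  have h1 : P ≤ K := s.win_top ▸ s.win_le le_rfl fun i h1 h2 => hK i (by omega) (by omega)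
  have h2 : MulAut.conj c⁻¹ • P ≤ K :=
    h.win_neg s ▸ s.win_le le_rfl fun i h1 h2 => hK i h1 (by omega)
  intro z hz
  have h3 := h.gen (show c * z * c⁻¹ ∈ H from mul_mem (mul_mem h.cH hz) (inv_mem h.cH))
  have h4 := conj_mem_conjS (g := c⁻¹) h3
  rw [Subgroup.smul_sup, ← conjS_mul, inv_mul_cancel, conjS_one,
    show c⁻¹ * (c * z * c⁻¹) * c⁻¹⁻¹ = z by group] at h4
  exact sup_le h2 h1 h4

theorem Q_le (h : Setting H P Q c y) : Q ≤ P := h.inter ▸ inf_le_left

theorem P_normalizes (h : Setting H P Q c y) : P ≤ Subgroup.normalizer (Q : Set G) := by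
  refine (Subgroup.normal_subgroupOf_iff_le_normalizer h.Q_le).1
    (Subgroup.normal_of_index_eq_two ?_)
  show Q.relIndex P = 2
  have h1 := card_mul_relIndex h.Q_le
  rw [h.card_P, mul_comm 2] at h1
  exact Nat.eq_of_mul_eq_mul_left Nat.card_pos h1

theorem y2_Q (h : Setting H P Q c y) : MulAut.conj y • MulAut.conj y • Q = Q := by
  have h1 : Subgroup.centralizer (P : Set G) ≤ Subgroup.normalizer (Q : Set G) := fun z hz =>
    mem_normalizer_iff_conjS.2 (conjS_eq_of_centralize fun q hq =>
      ((Subgroup.mem_centralizer_iff.1 hz) q (h.Q_le hq)).symm)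
  have := sup_le h.P_normalizes h1 h.y2
  rw [mem_normalizer_iff_conjS, pow_two, conjS_mul] at this
  exact this

theorem seq_normalizes (h : Setting H P Q c y) (s : Shift P (y * c) e m) {i : ℤ} (h1 : -1 ≤ i)
    (h2 : i < m) : seq (y * c) e m i ∈ Subgroup.normalizer (Q : Set G) := by
  rcases eq_or_lt_of_le h1 with rfl | h3
  · have hz : seq (y * c) e m (-1) ∈ MulAut.conj c⁻¹ • P :=
      h.win_neg s ▸ s.seq_mem le_rfl le_rfl (by have := s.pos; omega)
    rw [mem_conjS, inv_inv] at hz
    have h4 := mem_normalizer_iff_conjS.1 (h.P_normalizes hz)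
    rw [mem_normalizer_iff_conjS]
    rw [conjS_mul, conjS_mul] at h4
    have hcQ' : MulAut.conj c⁻¹ • Q = Q := by
      conv_lhs => rw [← h.cQ, ← conjS_mul, inv_mul_cancel, conjS_one]
    rw [hcQ'] at h4
    exact MulAction.injective (MulAut.conj c) (h4.trans h.cQ.symm)
  · exact h.P_normalizes (s.win_top ▸ s.seq_mem le_rfl (by omega) (by omega))

theorem inf_eq_bot (h : Setting H P Q c y) (hn : H ≤
    Subgroup.normalizer ((Q ⊓ MulAut.conj y • Q : Subgroup G) : Set G)) :
    Q ⊓ MulAut.conj y • Q = ⊥ :=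
  h.faith _ (inf_le_left.trans h.Q_le) hn (by rw [Subgroup.smul_inf, h.y2_Q, inf_comm])

theorem two_le (h : Setting H P Q c y) (hm : Nat.card P = 2 ^ m) : 2 ≤ m := by
  by_contra hc
  have h1 := h.card_P
  rw [hm] at h1
  have hQ : Nat.card Q = 1 := by
    have := Nat.card_pos (α := Q)
    interval_cases m <;> omega
  apply h.yQ
  rw [Subgroup.eq_bot_of_card_eq _ hQ, Subgroup.smul_bot]

theorem le_two_of_comm (h : Setting H P Q c y) (s : Shift P (y * c) e m)
    (hc : CommBelow (y * c) e m m) : m ≤ 2 := by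
  by_contra hm
  have hR : win P (y * c) m 1 (m - 2) = Q ⊓ MulAut.conj y • Q := by
    rw [← h.win_one s, ← h.win_zero_eq s]
    have := s.inf_succ 0 (l := m - 2) (by omega)
    rw [show m - 2 + 1 = m - 1 by omega, zero_add] at this
    exact this.symm
  have hH : H ≤ Subgroup.normalizer ((Q ⊓ MulAut.conj y • Q : Subgroup G) : Set G) := by
    rw [← hR]
    refine h.le_of_gens s fun i h1 h2 => ?_
    exact mem_normalizer_iff_conjS.2 (conjS_eq_of_centralize fun z hz =>
      s.win_commute hc s.pos (by omega) (by omega) (by omega) (s.seq_mem_one i) hz)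
  have := h.inf_eq_bot hH
  rw [← hR] at this
  have h1 := s.card_win 1 (l := m - 2) (by omega)
  rw [this, Subgroup.card_bot] at h1
  exact absurd h1 (Nat.one_lt_two_pow (by omega)).ne

theorem cm_left (h : Setting H P Q c y) (s : Shift P (y * c) e m) {lam : ℕ}
    (hc : CommBelow (y * c) e m lam) (hlm : lam < m) (hml : m ≤ 2 * lam) :
    cm (y * c) e m ((m : ℤ) - 1 - lam) ((m : ℤ) - 1) ∈ win P (y * c) m 0 m ∧
    ∀ i : ℤ, 0 ≤ i → i < m →
      Commute (cm (y * c) e m ((m : ℤ) - 1 - lam) ((m : ℤ) - 1)) (seq (y * c) e m i) := by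
  set v := seq (y * c) e m ((m : ℤ) - 1 - lam) with hv
  set b := seq (y * c) e m ((m : ℤ) - 1) with hb
  have hbn := h.seq_normalizes s (i := (m : ℤ) - 1) (by omega) (by omega)
  have hQ := h.win_zero_eq s
  have hvQ : v ∈ Q := hQ ▸ s.seq_mem (by omega) (by omega) (by omega)
  have hvc : ∀ q ∈ Q, Commute v q := fun q hq => s.win_commute hc s.pos (show m - 1 ≤ m by omega)
    (by omega) (by omega) (s.seq_mem_one _) (hQ.symm ▸ hq : q ∈ win P (y * c) m 0 (m - 1))
  have hconj : ∀ q ∈ Q, b * q * b ∈ Q := fun q hq => by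
    have := (Subgroup.mem_normalizer_iff.1 hbn q).1 hq
    rwa [← hb, s.seq_inv] at this
  have hbb : b * b = 1 := s.seq_mul_self _
  have hwc : ∀ q ∈ Q, Commute (b * v * b) q := fun q hq => by
    have h1 := (hvc _ (hconj q hq)).eq
    calc b * v * b * q = b * (v * (b * q * b)) * b := by
          simp only [mul_assoc, hbb, mul_one]
      _ = b * (b * q * b * v) * b := by rw [h1]
      _ = q * (b * v * b) := by simp only [← mul_assoc, hbb, one_mul]
  have hcm : cm (y * c) e m ((m : ℤ) - 1 - lam) ((m : ℤ) - 1) = v * (b * v * b) := by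
    rw [cm, ← hv, ← hb]; group
  rw [hcm, s.win_top]
  refine ⟨h.Q_le (mul_mem hvQ (hconj v hvQ)), fun i h1 h2 => ?_⟩
  rcases eq_or_lt_of_le (show i ≤ (m : ℤ) - 1 by omega) with he | hlt
  · rw [he, ← hb]
    calc v * (b * v * b) * b = v * (b * v) := by simp only [mul_assoc, hbb, mul_one]
      _ = b * (b * v * b * v) := by simp only [← mul_assoc, hbb, one_mul]
      _ = b * (v * (b * v * b)) := by rw [(hwc v hvQ).eq]
  · exact (hvc _ (hQ ▸ s.seq_mem (by omega) h1 (by omega))).mul_left
      (hwc _ (hQ ▸ s.seq_mem (by omega) h1 (by omega)))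

theorem cm_right (h : Setting H P Q c y) (s : Shift P (y * c) e m) {lam : ℕ}
    (hc : CommBelow (y * c) e m lam) (hlm : lam < m) (hml : m ≤ 2 * lam) :
    cm (y * c) e m 0 lam ∈ win P (y * c) m 0 m ∧
    ∀ i : ℤ, 0 ≤ i → i < m → Commute (cm (y * c) e m 0 lam) (seq (y * c) e m i) := by
  set v := seq (y * c) e m ((lam : ℤ) - 1) with hv
  set a := seq (y * c) e m (-1) with ha
  have han := h.seq_normalizes s (i := -1) le_rfl (by omega)
  have hQ := h.win_zero_eq s
  have hvQ : v ∈ Q := hQ ▸ s.seq_mem (by omega) (by omega) (by omega)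
  have hvc : ∀ q ∈ Q, Commute v q := fun q hq => s.win_commute hc s.pos (show m - 1 ≤ m by omega)
    (by omega) (by omega) (s.seq_mem_one _) (hQ.symm ▸ hq : q ∈ win P (y * c) m 0 (m - 1))
  have hconj : ∀ q ∈ Q, a * q * a ∈ Q := fun q hq => by
    have := (Subgroup.mem_normalizer_iff.1 han q).1 hq
    rwa [← ha, s.seq_inv] at this
  have haa : a * a = 1 := s.seq_mul_self _
  have hwc : ∀ q ∈ Q, Commute (a * v * a) q := fun q hq => by
    have h1 := (hvc _ (hconj q hq)).eq
    calc a * v * a * q = a * (v * (a * q * a)) * a := by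
          simp only [mul_assoc, haa, mul_one]
      _ = a * (a * q * a * v) * a := by rw [h1]
      _ = q * (a * v * a) := by simp only [← mul_assoc, haa, one_mul]
  have hcm : cm (y * c) e m (-1) ((lam : ℤ) - 1) = a * v * a * v := by
    rw [cm, ← hv, ← ha]
  have hsh : (y * c) ^ (1 : ℤ) * (a * v * a * v) * ((y * c) ^ (1 : ℤ))⁻¹ =
      cm (y * c) e m 0 lam := by
    rw [← hcm, s.conj_cm, show (-1 : ℤ) + 1 = 0 from rfl, sub_add_cancel]
  have hmem : a * v * a * v ∈ win P (y * c) m (-1) m :=
    s.win_mono le_rfl (by omega) (by omega) (hQ.symm ▸ mul_mem (hconj v hvQ) hvQ :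
      a * v * a * v ∈ win P (y * c) m 0 (m - 1))
  refine ⟨hsh ▸ s.mem_win_conj 1 (by omega) hmem, fun i h1 h2 => ?_⟩
  rw [← hsh, show i = i - 1 + 1 by omega, ← conj_seq (y * c) e m 1 (i - 1)]
  refine (Commute.conj_iff _).2 ?_
  rcases eq_or_lt_of_le (show (-1 : ℤ) ≤ i - 1 by omega) with he | hlt
  · rw [← he, ← ha]
    calc a * v * a * v * a = v * (a * v * a) * a := by rw [← (hwc v hvQ).eq]
      _ = v * (a * v) := by simp only [mul_assoc, haa, mul_one]
      _ = a * (a * v * a * v) := by
          simp only [← mul_assoc, haa, one_mul]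
  · exact (hwc _ (hQ ▸ s.seq_mem (by omega) (by omega) (by omega))).mul_left
      (hvc _ (hQ ▸ s.seq_mem (by omega) (by omega) (by omega)))

theorem middle_le_two (h : Setting H P Q c y) (s : Shift P (y * c) e m) {lam : ℕ}
    (hc : CommBelow (y * c) e m lam) (hlm : lam < m) : 2 * lam ≤ m + 2 := by
  by_contra hd
  obtain ⟨t, ht⟩ : ∃ t, 2 * lam = m + 3 + t := ⟨2 * lam - (m + 3), by omega⟩
  obtain ⟨A, hA⟩ : ∃ A, A = win P (y * c) m ((m : ℤ) - lam) (t + 2) := ⟨_, rfl⟩
  have hH : H ≤ Subgroup.centralizer (A : Set G) := h.le_of_gens s fun i h1 h2 => by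
    rw [Subgroup.mem_centralizer_iff, hA]
    exact fun z hz => (s.win_commute hc (by omega) s.pos (by omega) (by omega) hz
      (s.seq_mem_one i)).eq
  have hAg : MulAut.conj y • A = win P (y * c) m ((m : ℤ) - lam + 1) (t + 2) := by
    rw [← s.conjS_g, ← hA, conjS_mul, conjS_eq_of_centralize (g := c)
      fun z hz => ((Subgroup.mem_centralizer_iff.1 (hH h.cH)) z hz).symm]
  have hAy : MulAut.conj y • MulAut.conj y • A = A := by
    have h1 : P ⊔ Subgroup.centralizer (P : Set G) ≤ Subgroup.centralizer (A : Set G) := by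
      have hAP : A ≤ P := hA.le.trans ((s.win_mono le_rfl (by omega) (by omega)).trans_eq s.win_top)
      refine sup_le (fun z hz => ?_) (Subgroup.centralizer_le hAP)
      rw [Subgroup.mem_centralizer_iff, hA]
      exact fun u hu => (s.win_commute hc (by omega) le_rfl (by omega) (by omega) hu
        (s.win_top.symm ▸ hz : z ∈ win P (y * c) m 0 m)).eq
    have h2 := Subgroup.mem_centralizer_iff.1 (h1 h.y2)
    rw [← conjS_mul, ← pow_two]
    exact conjS_eq_of_centralize fun z hz => (h2 z hz).symm
  have hK := h.faith (A ⊓ MulAut.conj y • A)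
    (inf_le_left.trans (hA.le.trans ((s.win_mono le_rfl (by omega) (by omega)).trans_eq s.win_top)))
    (hH.trans fun z hz => mem_normalizer_iff_conjS.2 (conjS_eq_of_centralize fun u hu =>
      ((Subgroup.mem_centralizer_iff.1 hz) u hu.1).symm))
    (by rw [Subgroup.smul_inf, hAy, inf_comm])
  rw [hAg, hA, s.inf_succ _ (by omega)] at hK
  have h1 := s.card_win ((m : ℤ) - lam + 1) (l := t + 1) (by omega)
  rw [hK, Subgroup.card_bot] at h1
  exact absurd h1 (Nat.one_lt_two_pow (by omega)).ne

theorem ne_six (h : Setting H P Q c y) (s : Shift P (y * c) e m) (hc : CommBelow (y * c) e m 4)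
    (hn : ¬ Commute (seq (y * c) e m 0) (seq (y * c) e m 4)) : m ≠ 6 := by
  intro hm
  have hn1 : ¬ Commute (seq (y * c) e m 1) (seq (y * c) e m 5) := fun h1 => hn (by
    have := s.commute_shift (-1) h1
    norm_num at this
    exact this)
  have hR : win P (y * c) m 1 4 = Q ⊓ MulAut.conj y • Q := by
    rw [← h.win_one s, ← h.win_zero_eq s, show m - 1 = 4 + 1 by omega]
    exact (s.inf_succ 0 (by omega)).symm
  set x0 := seq (y * c) e m 0 with hx0
  set x5 := seq (y * c) e m 5 with hx5
  have h00 : x0 * x0 = 1 := s.seq_mul_self 0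
  have h55 : x5 * x5 = 1 := s.seq_mul_self 5
  obtain ⟨u, hu⟩ : ∃ u, u = x0 * x5 * x0 * x5 := ⟨_, rfl⟩
  have huR : u ∈ win P (y * c) m 1 4 := by
    rw [hR]
    constructor
    · have h0 : x0 ∈ Q := h.win_zero_eq s ▸ s.seq_mem (by omega) le_rfl (by omega)
      have h1 := (Subgroup.mem_normalizer_iff.1 (h.seq_normalizes s (i := 5) (by omega)
        (by omega)) x0).1 h0
      rw [← hx5, s.seq_inv] at h1
      have := mul_mem h0 h1
      rwa [← mul_assoc, ← mul_assoc, ← hu] at this
    · have h5 : x5 ∈ MulAut.conj y • Q := h.win_one s ▸ s.seq_mem (by omega) (by omega) (by omega)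
      have h0P : x0 ∈ P := s.win_top ▸ s.seq_mem le_rfl le_rfl (by omega)
      have hn' : P ≤ Subgroup.normalizer ((MulAut.conj y • Q : Subgroup G) : Set G) := by
        intro z hz
        rw [mem_normalizer_iff_conjS]
        have hz' : y⁻¹ * z * y ∈ P := by rw [← mem_conjS, h.yP]; exact hz
        calc MulAut.conj z • MulAut.conj y • Q = MulAut.conj y • MulAut.conj (y⁻¹ * z * y) • Q := by
              rw [← conjS_mul, ← conjS_mul]; congr 2; group
          _ = _ := by rw [mem_normalizer_iff_conjS.1 (h.P_normalizes hz')]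
      have h1 := (Subgroup.mem_normalizer_iff.1 (hn' h0P) x5).1 h5
      rw [s.seq_inv] at h1
      have := mul_mem h1 h5
      rwa [← hu] at this
  have hi0 : x0⁻¹ = x0 := s.seq_inv 0
  have hi5 : x5⁻¹ = x5 := s.seq_inv 5
  have huu : u * u = 1 := s.win_mul_self hc le_rfl (by omega) huR
  have hinv : u⁻¹ = u := inv_eq_of_mul_eq_one_right huu
  have hc0 : Commute u x0 := by
    show u * x0 = x0 * u
    conv_lhs => rw [← hinv]
    rw [hu]
    simp only [mul_inv_rev, hi0, hi5, mul_assoc, h00, mul_one]
    rw [← mul_assoc x0 x0, h00, one_mul]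
  have hc5 : Commute u x5 := by
    show u * x5 = x5 * u
    conv_rhs => rw [← hinv]
    rw [hu]
    simp only [mul_inv_rev, hi0, hi5, mul_assoc, h55, mul_one]
    rw [← mul_assoc x5 x5, h55, one_mul]
  have h13 : u ∈ win P (y * c) m 1 3 := by
    rcases s.cases_right (l := 3) (by omega) huR with h1 | h1
    · exact h1
    · refine absurd ?_ hn
      have h2 := hc0.inv_left.mul_left (s.win_commute hc (show (3 : ℕ) ≤ m by omega) s.pos
        (by omega) (by omega) h1 (s.seq_mem_one (0 : ℤ)))
      rw [inv_mul_cancel_left] at h2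
      norm_num at h2
      exact h2.symm
  have h22 : u ∈ win P (y * c) m 2 2 := by
    rcases s.cases_left (l := 2) (by omega) h13 with h1 | h1
    · norm_num at h1; exact h1
    · refine absurd ?_ hn1
      have h2 := (s.win_commute hc (show (2 : ℕ) ≤ m by omega) s.pos (by omega) (by omega) h1
        (s.seq_mem_one (5 : ℤ))).mul_left hc5.inv_left
      rwa [mul_inv_cancel_right] at h2
  have hu' : cm (y * c) e m (-1) 4 ∈ win P (y * c) m 1 2 := by
    have := s.mem_win_conj (b := 1) (-1) (by norm_num) (hu ▸ h22 : cm (y * c) e m 0 5 ∈ _)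
    rw [s.conj_cm] at this
    norm_num at this
    exact this
  have hQ4 : ∀ z ∈ win P (y * c) m 1 3, ∀ q ∈ Q, Commute z q := fun z hz q hq =>
    s.win_commute hc (show (3 : ℕ) ≤ m by omega) (show m - 1 ≤ m by omega) (by omega) (by omega)
      hz ((h.win_zero_eq s).symm ▸ hq)
  set a := seq (y * c) e m (-1) with ha
  have haa : a * a = 1 := s.seq_mul_self _
  have han := h.seq_normalizes s (i := -1) le_rfl (by omega)
  have hc14 : ∀ i : ℤ, 1 ≤ i → i < 5 →
      a * seq (y * c) e m i * a ∈ win P (y * c) m 1 4 := by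
    intro i h1 h2
    rcases eq_or_lt_of_le (show i ≤ 4 by omega) with he | hlt
    · subst he
      have e1 : a * seq (y * c) e m 4 * a = cm (y * c) e m (-1) 4 * seq (y * c) e m 4 := by
        rw [cm, ← ha, mul_assoc _ (seq (y * c) e m 4) (seq (y * c) e m 4), s.seq_mul_self, mul_one]
      rw [e1]
      exact mul_mem (s.win_mono (by omega) le_rfl (by omega) hu')
        (s.seq_mem (by omega) (by omega) (by omega))
    · have hv : seq (y * c) e m i ∈ win P (y * c) m 1 3 := s.seq_mem (by omega) h1 (by omega)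
      have hvQ : seq (y * c) e m i ∈ Q := h.win_zero_eq s ▸ s.seq_mem (by omega) (by omega) (by omega)
      have h1 := (Subgroup.mem_normalizer_iff.1 han _).1 hvQ
      rw [← ha, s.seq_inv] at h1
      have h3 : ∀ j : ℤ, 0 ≤ j → j < ((m - 1 : ℕ) : ℤ) →
          Commute (a * seq (y * c) e m i * a) (seq (y * c) e m j) := by
        intro j hj1 hj2
        have hjQ : seq (y * c) e m j ∈ Q := h.win_zero_eq s ▸ s.seq_mem (by omega) hj1 (by omega)
        have h4 := (Subgroup.mem_normalizer_iff.1 han _).1 hjQ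
        rw [← ha, s.seq_inv] at h4
        have h5 := (Commute.conj_iff a).2 (hQ4 _ hv _ h4)
        rw [show a⁻¹ = a from s.seq_inv _] at h5
        have e : a * (a * seq (y * c) e m j * a) * a = seq (y * c) e m j := by
          simp only [← mul_assoc, haa, one_mul]
          rw [mul_assoc, haa, mul_one]
        rwa [e] at h5
      rw [← h.win_zero_eq s] at h1
      have h6 := (s.win_center hc (by omega) hn (m - 1) (by omega) (by omega)).2 _ h1 h3
      exact s.win_mono (by omega) (by omega) (by omega) h6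
  have hH : H ≤ Subgroup.normalizer ((Q ⊓ MulAut.conj y • Q : Subgroup G) : Set G) := by
    refine h.le_of_gens s fun i h1 h2 => ?_
    rcases eq_or_lt_of_le h1 with rfl | h3
    · rw [← hR, ← ha, mem_normalizer_iff_conjS]
      refine Subgroup.eq_of_le_of_card_ge ?_ (by rw [card_conjS])
      have hle : win P (y * c) m 1 4 ≤ MulAut.conj a⁻¹ • win P (y * c) m 1 4 := by
        refine s.win_le (by omega) fun j hj1 hj2 => ?_
        rw [mem_conjS, inv_inv, s.seq_inv]
        exact hc14 j hj1 (by omega)
      have h9 := Subgroup.pointwise_smul_le_pointwise_smul_iff (a := MulAut.conj a).2 hle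
      rwa [← conjS_mul, mul_inv_cancel, conjS_one] at h9
    · have hP : seq (y * c) e m i ∈ P := s.win_top ▸ s.seq_mem le_rfl (by omega) (by omega)
      have hz' : y⁻¹ * seq (y * c) e m i * y ∈ P := by rw [← mem_conjS, h.yP]; exact hP
      rw [mem_normalizer_iff_conjS, Subgroup.smul_inf,
        mem_normalizer_iff_conjS.1 (h.P_normalizes hP)]
      congr 1
      calc MulAut.conj (seq (y * c) e m i) • MulAut.conj y • Q
          = MulAut.conj y • MulAut.conj (y⁻¹ * seq (y * c) e m i * y) • Q := by
            rw [← conjS_mul, ← conjS_mul]; congr 2; group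
        _ = _ := by rw [mem_normalizer_iff_conjS.1 (h.P_normalizes hz')]
  have := h.inf_eq_bot hH
  rw [← hR] at this
  have h1 := s.card_win 1 (l := 4) (by omega)
  rw [this, Subgroup.card_bot] at h1
  omega

/-- The three possibilities for the sequence. -/
theorem cases (h : Setting H P Q c y) (s : Shift P (y * c) e m) (hm : Nat.card P = 2 ^ m) :
    (m = 2 ∧ CommBelow (y * c) e m 2) ∨
    (m = 3 ∧ CommBelow (y * c) e m 2 ∧ cm (y * c) e m 0 2 = seq (y * c) e m 1) ∨
    (m = 4 ∧ CommBelow (y * c) e m 3 ∧ (cm (y * c) e m 0 3 = seq (y * c) e m 1 ∨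
      cm (y * c) e m 0 3 = seq (y * c) e m 2 ∨
      cm (y * c) e m 0 3 = seq (y * c) e m 1 * seq (y * c) e m 2)) := by
  classical
  have hm2 := h.two_le hm
  by_cases hab : ∀ d : ℕ, d < m → Commute (seq (y * c) e m 0) (seq (y * c) e m d)
  · have := h.le_two_of_comm s (s.commBelow_of hab)
    obtain rfl : m = 2 := by omega
    exact Or.inl ⟨rfl, s.commBelow_of hab⟩
  · push Not at hab
    obtain ⟨lam, ⟨hlm, hn⟩, hmin⟩ : ∃ lam, (lam < m ∧
        ¬ Commute (seq (y * c) e m 0) (seq (y * c) e m (lam : ℕ))) ∧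
        ∀ d < lam, ¬ (d < m ∧ ¬ Commute (seq (y * c) e m 0) (seq (y * c) e m (d : ℕ))) :=
      ⟨Nat.find hab, Nat.find_spec hab, fun d => Nat.find_min hab⟩
    have hc : CommBelow (y * c) e m lam := s.commBelow_of fun d hd => by
      have := hmin d hd
      push Not at this
      exact this (by omega)
    have hl2 : 2 ≤ lam := by
      by_contra hl
      interval_cases lam
      · exact hn (by norm_num)
      · exact hn (by norm_num; exact s.seq_commute_succ hm2)
    obtain ⟨hlt, hcen⟩ := s.win_center hc (by omega) hn m hlm.le le_rfl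
    have hd := h.middle_le_two s hc hlm
    obtain ⟨hL1, hL2⟩ := h.cm_left s hc hlm hlt.le
    obtain ⟨hR1, hR2⟩ := h.cm_right s hc hlm hlt.le
    have hw2 := hcen _ hR1 hR2
    have hw1 : cm (y * c) e m 0 lam ∈ win P (y * c) m 1 (2 * lam - m) := by
      have h1 := s.mem_win_conj (b := 1) (-((m : ℤ) - 1 - lam)) (by ring) (hcen _ hL1 hL2)
      rw [s.conj_cm, add_neg_cancel,
        show (m : ℤ) - 1 + -((m : ℤ) - 1 - lam) = lam by ring] at h1
      exact h1
    have hw0 : cm (y * c) e m 0 lam ≠ 1 := fun e1 => hn (by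
      show seq (y * c) e m 0 * seq (y * c) e m lam = seq (y * c) e m lam * seq (y * c) e m 0
      rw [cm, mul_assoc, mul_eq_one_iff_eq_inv, mul_inv_rev, s.seq_inv, s.seq_inv] at e1
      exact e1)
    have hdis : ¬ (2 * lam - m + 1 + lam ≤ m) := fun hc' => by
      have h1 := s.disjoint (l := 2 * lam - m) (a := 1) (b := (m : ℤ) - lam) (k := 2 * lam - m) (by omega)
        (by omega) (by omega)
      exact hw0 (Subgroup.mem_bot.1 (h1 ▸ ⟨hw1, hw2⟩))
    rcases (show m + 1 = 2 * lam ∨ m + 2 = 2 * lam by omega) with hm' | hm'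
    · obtain rfl : lam = 2 := by omega
      obtain rfl : m = 3 := by omega
      refine Or.inr (Or.inl ⟨rfl, hc, ?_⟩)
      rcases s.cases_left (l := 0) (by omega) hw1 with h1 | h1
      · rw [s.win_zero] at h1; exact absurd h1 hw0
      · rw [s.win_zero, Subgroup.mem_bot] at h1
        exact (eq_inv_of_mul_eq_one_right h1).trans (s.seq_inv 1)
    · rcases (show lam = 3 ∨ lam = 4 by omega) with rfl | rfl
      · obtain rfl : m = 4 := by omega
        refine Or.inr (Or.inr ⟨rfl, hc, ?_⟩)
        have h2 : ∀ z ∈ win P (y * c) 4 2 1, z = 1 ∨ z = seq (y * c) e 4 2 := by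
          intro z hz
          rcases s.cases_left (l := 0) (by omega) hz with h1 | h1
          · rw [s.win_zero] at h1; exact Or.inl h1
          · rw [s.win_zero, Subgroup.mem_bot] at h1
            exact Or.inr ((eq_inv_of_mul_eq_one_right h1).trans (s.seq_inv 2))
        rcases s.cases_left (l := 1) (by omega) hw1 with h1 | h1 <;> norm_num at h1 <;>
          rcases h2 _ h1 with h3 | h3
        · exact absurd h3 hw0
        · exact Or.inr (Or.inl h3)
        · exact Or.inl ((eq_inv_of_mul_eq_one_right h3).trans (s.seq_inv 1))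
        · refine Or.inr (Or.inr ?_)
          rw [← h3, ← mul_assoc, s.seq_mul_self, one_mul]
      · exact absurd (show m = 6 by omega) (h.ne_six s hc (by simpa using hn))

end Setting

end CfsgLib.DihedralEdge
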