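import Cfsg.Prelude.Def_CaseTheorems
import Cfsg.Agent.ExtremelyClosed.Reduction
import Mathlib.GroupTheory.SpecificGroups.Dihedral
import Mathlib.GroupTheory.SpecificGroups.KleinFour
import Mathlib.GroupTheory.GroupAction.Quotient
import Mathlib.GroupTheory.IndexNormal

/-!
# Small groups with a dihedral quotient over an elementary abelian 2-group

A finite group `K` with a normal elementary abelian 2-subgroup `Q` of order 2, 4 or 8,
`K/Q` dihedral of order `2n`, `n` odd, generated modulo `Q` by two involutions `a`, `b` acting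
as described in `Data`: modulo the odd core `K` is `V₄`, `S₄` or `S₄ × 2`.
-/

set_option autoImplicit false
set_option maxHeartbeats 400000
set_option linter.unusedSectionVars false

namespace CfsgLib.DihedralEdge

open Cfsg

variable {K : Type*} [Group K] [Finite K]

/-- `φ` has kernel `Q`; `a`, `b` are involutions mapping to reflections and generating over `Q`. -/
structure Data (n : ℕ) (φ : K →* DihedralGroup n) (Q : Subgroup K) (a b : K) : Prop where
  odd : Odd n
  ne_one : n ≠ 1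
  ker : φ.ker = Q
  elem : ∀ q ∈ Q, q * q = 1
  comm : ∀ q ∈ Q, ∀ q' ∈ Q, q * q' = q' * q
  aa : a * a = 1
  bb : b * b = 1
  a_not : a ∉ Q
  b_not : b ∉ Q
  gen : ⊤ ≤ Q ⊔ Subgroup.closure {a, b}

theorem eq_one_of_odd {z : K} (h2 : z * z = 1) {k : ℕ} (hk : Odd k) (hz : z ^ k = 1) : z = 1 := by
  obtain ⟨t, rfl⟩ := hk
  rwa [pow_succ, pow_mul, pow_two, h2, one_pow, one_mul] at hz

theorem DihedralGroup.exists_sr {n : ℕ} (hn : Odd n) {x : DihedralGroup n} (h2 : x * x = 1)
    (h1 : x ≠ 1) : ∃ i, x = DihedralGroup.sr i := by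
  cases x with
  | r i =>
    refine absurd ?_ h1
    refine eq_one_of_odd' h2 hn ?_
    rw [DihedralGroup.r_pow, mul_comm]
    simp
  | sr i => exact ⟨i, rfl⟩
where
  eq_one_of_odd' {M : Type} [Group M] {z : M} (h2 : z * z = 1) {k : ℕ} (hk : Odd k)
      (hz : z ^ k = 1) : z = 1 := by
    obtain ⟨t, rfl⟩ := hk
    rwa [pow_succ, pow_mul, pow_two, h2, one_pow, one_mul] at hz

/-- `d` of order dividing `n`, inverted by `a`, with `ad` an involution `≡ b`. -/
structure Frame (n : ℕ) (φ : K →* DihedralGroup n) (Q : Subgroup K) (a b d : K) : Prop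
    extends Data n φ Q a b where
  dn : d ^ n = 1
  ada : a * d * a⁻¹ = d⁻¹
  dQ : ∀ q ∈ Q, d * q * d⁻¹ = a * b * q * (a * b)⁻¹
  bd : b ∈ Q ⊔ Subgroup.closure {a, d}
  rot : ∀ k : ℤ, ∃ i, φ (d ^ k) = DihedralGroup.r i

namespace Data

variable {n : ℕ} {φ : K →* DihedralGroup n} {Q : Subgroup K} {a b : K}

theorem frame (h : Data n φ Q a b) :
    ∃ d, Frame n φ Q a b d := by
  have hQn : Q.Normal := h.ker ▸ φ.normal_ker
  have hn0 : n ≠ 0 := by rintro rfl; exact absurd h.odd (by decide)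
  have hr : ∀ z : K, z * z = 1 → z ∉ Q → ∃ i, φ z = DihedralGroup.sr i := fun z hz hzQ =>
    DihedralGroup.exists_sr h.odd (by rw [← map_mul, hz, map_one])
      fun e => hzQ (h.ker ▸ MonoidHom.mem_ker.2 e)
  obtain ⟨i, hi⟩ := hr a h.aa h.a_not
  obtain ⟨j, hj⟩ := hr b h.bb h.b_not
  have hab : φ (a * b) = DihedralGroup.r (j - i) := by rw [map_mul, hi, hj, DihedralGroup.sr_mul_sr]
  obtain ⟨f, hf⟩ : ∃ f, f = (a * b) ^ n := ⟨_, rfl⟩
  have hfQ : f ∈ Q := by
    rw [← h.ker, MonoidHom.mem_ker, hf, map_pow, hab, DihedralGroup.r_pow]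
    simp
  have hai : a⁻¹ = a := inv_eq_of_mul_eq_one_right h.aa
  have hbi : b⁻¹ = b := inv_eq_of_mul_eq_one_right h.bb
  have hfi : f⁻¹ = f := inv_eq_of_mul_eq_one_right (h.elem f hfQ)
  have hba : (b * a) ^ n = f := by
    rw [← hfi, hf, ← inv_pow, mul_inv_rev, hai, hbi]
  have hfa : Commute f a := by
    have e : a * (a * b) ^ n * a⁻¹ = (b * a) ^ n := by
      rw [← conj_pow, show a * (a * b) * a⁻¹ = b * a by rw [hai, ← mul_assoc, h.aa, one_mul]]
    rw [hba, ← hf, mul_inv_eq_iff_eq_mul] at e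
    exact e.symm
  have hfb : Commute f b := by
    have e : b * (a * b) ^ n * b⁻¹ = (b * a) ^ n := by
      rw [← conj_pow, show b * (a * b) * b⁻¹ = b * a by group]
    rw [hba, ← hf, mul_inv_eq_iff_eq_mul] at e
    exact e.symm
  refine ⟨a * b * f, { h with dn := ?_, ada := ?_, dQ := ?_, bd := ?_, rot := ?_ }⟩
  · obtain ⟨t, ht⟩ := h.odd
    rw [(hfa.mul_right hfb).symm.mul_pow, ← hf, ← pow_succ', ht,
      show 2 * t + 1 + 1 = 2 * (t + 1) by ring, pow_mul, pow_two, h.elem f hfQ, one_pow]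
  · rw [hai, mul_inv_rev, mul_inv_rev, hai, hbi, hfi]
    calc a * (a * b * f) * a = b * (f * a) := by
          rw [mul_assoc a b f, ← mul_assoc a a, h.aa, one_mul, mul_assoc]
      _ = b * (a * f) := by rw [hfa.eq]
      _ = b * a * f := by rw [mul_assoc]
      _ = f * (b * a) := ((hfb.mul_right hfa).eq).symm
  · intro q hq
    calc a * b * f * q * (a * b * f)⁻¹ = a * b * (f * q * f⁻¹) * (a * b)⁻¹ := by group
      _ = _ := by rw [h.comm f hfQ q hq, mul_inv_cancel_right]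
  · have e : b = a * (a * b * f) * f⁻¹ := by
      rw [← mul_assoc, mul_inv_cancel_right, ← mul_assoc, h.aa, one_mul]
    have hm : a * (a * b * f) * f⁻¹ ∈ Q ⊔ Subgroup.closure {a, a * b * f} :=
      mul_mem (Subgroup.mem_sup_right (mul_mem (Subgroup.subset_closure (by simp))
        (Subgroup.subset_closure (by simp)))) (Subgroup.mem_sup_left (inv_mem hfQ))
    rwa [← mul_assoc, mul_inv_cancel_right, ← mul_assoc, h.aa, one_mul] at hm
  · intro k
    have hfr : φ f = 1 := MonoidHom.mem_ker.1 (h.ker.symm ▸ hfQ)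
    exact ⟨(j - i) * k, by rw [map_zpow, map_mul, hfr, mul_one, hab, DihedralGroup.r_zpow]⟩

end Data

namespace Frame

variable {n : ℕ} {φ : K →* DihedralGroup n} {Q : Subgroup K} {a b d : K}

theorem mem_closure (h : Frame n φ Q a b d) {z : K} (hz : z ∈ Subgroup.closure {a, d}) :
    ∃ k : ℤ, z = d ^ k ∨ z = d ^ k * a := by
  have hconj : ∀ k : ℤ, a * d ^ k = d ^ (-k) * a := fun k => by
    have e : a * d ^ k * a⁻¹ = d ^ (-k) := by rw [← conj_zpow, h.ada, inv_zpow, zpow_neg]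
    rw [← e, inv_mul_cancel_right]
  induction hz using Subgroup.closure_induction with
  | mem z hz =>
    rcases hz with rfl | rfl
    · exact ⟨0, Or.inr (by simp)⟩
    · exact ⟨1, Or.inl (by simp)⟩
  | one => exact ⟨0, Or.inl (by simp)⟩
  | mul u v _ _ hu hv =>
    obtain ⟨k, rfl | rfl⟩ := hu <;> obtain ⟨l, rfl | rfl⟩ := hv
    · exact ⟨k + l, Or.inl (zpow_add d k l).symm⟩
    · exact ⟨k + l, Or.inr (by rw [zpow_add, mul_assoc])⟩
    · exact ⟨k + -l, Or.inr (by rw [zpow_add, mul_assoc (d ^ k) a, hconj, ← mul_assoc])⟩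
    · exact ⟨k + -l, Or.inl (by
        rw [zpow_add, mul_assoc (d ^ k) a, ← mul_assoc a, hconj, mul_assoc _ a a, h.aa, mul_one])⟩
  | inv u _ hu =>
    obtain ⟨k, rfl | rfl⟩ := hu
    · exact ⟨-k, Or.inl (zpow_neg d k).symm⟩
    · refine ⟨k, Or.inr ?_⟩
      rw [mul_inv_rev, inv_eq_of_mul_eq_one_right h.aa, ← zpow_neg, hconj, neg_neg]

theorem closure_inf (h : Frame n φ Q a b d) : Subgroup.closure {a, d} ⊓ Q = ⊥ := by
  rw [eq_bot_iff]
  rintro z ⟨hz, hzQ⟩
  rw [Subgroup.mem_bot]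
  obtain ⟨k, rfl | rfl⟩ := h.mem_closure hz
  · refine eq_one_of_odd (h.elem _ hzQ) h.odd ?_
    rw [← zpow_natCast, ← zpow_mul, mul_comm, zpow_mul, zpow_natCast, h.dn, one_zpow]
  · exfalso
    have h1 : φ (d ^ k * a) = 1 := MonoidHom.mem_ker.1 (h.ker.symm ▸ hzQ)
    rw [map_mul, mul_eq_one_iff_eq_inv'] at h1
    have h2 : φ a ^ n = 1 := by
      rw [h1, inv_pow, ← map_pow, ← zpow_natCast, ← zpow_mul, mul_comm, zpow_mul, zpow_natCast,
        h.dn, one_zpow, map_one, inv_one]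
    refine h.a_not (h.ker ▸ MonoidHom.mem_ker.2 ?_)
    obtain ⟨t, ht⟩ := h.odd
    have h3 : φ a ^ (2 * t + 1) = 1 := by rw [← ht]; exact h2
    rwa [pow_succ, pow_mul, pow_two, ← map_mul, h.aa, map_one, one_pow, one_mul] at h3

theorem sup_eq_top (h : Frame n φ Q a b d) : Q ⊔ Subgroup.closure {a, d} = ⊤ := by
  refine top_le_iff.1 (h.gen.trans (sup_le le_sup_left ((Subgroup.closure_le _).2 ?_)))
  rintro z (rfl | rfl)
  · exact Subgroup.mem_sup_right (Subgroup.subset_closure (by simp))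
  · exact h.bd

theorem exists_eq (h : Frame n φ Q a b d) (z : K) :
    ∃ q ∈ Q, ∃ s ∈ Subgroup.closure {a, d}, z = q * s := by
  have : Q.Normal := h.ker ▸ φ.normal_ker
  have hz : z ∈ Q ⊔ Subgroup.closure {a, d} := h.sup_eq_top ▸ Subgroup.mem_top z
  rw [Subgroup.mem_sup_of_normal_left] at hz
  obtain ⟨q, hq, s, hs, rfl⟩ := hz
  exact ⟨q, hq, s, hs, rfl⟩

/-- Members of the odd core are powers of `d`. -/
theorem oddCore_mem (h : Frame n φ Q a b d) {z : K} (hz : z ∈ oddCore K) :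
    ∃ k : ℤ, z = d ^ k := by
  have hodd := ExtremelyClosed.odd_card_oddCore' K
  have hpow : ∀ w ∈ oddCore K, w ^ Nat.card (oddCore K) = 1 := fun w hw =>
    congrArg Subtype.val (pow_card_eq_one' (x := (⟨w, hw⟩ : oddCore K)))
  obtain ⟨q, hq, s, hs, rfl⟩ := h.exists_eq z
  have hQn : Q.Normal := h.ker ▸ φ.normal_ker
  have hcn : (oddCore K).Normal := Subgroup.sSup_normal _ fun _ hN => hN.1
  obtain ⟨k, rfl | rfl⟩ := h.mem_closure hs
  · have hcomm : ∀ q' ∈ Q, Commute q' (q * d ^ k) := fun q' hq' => by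
      have hmem : q' * (q * d ^ k) * q'⁻¹ * (q * d ^ k)⁻¹ ∈ oddCore K ⊓ Q := by
        refine Subgroup.mem_inf.2 ⟨mul_mem (hcn.conj_mem _ hz q') (inv_mem hz), ?_⟩
        rw [mul_assoc, mul_assoc q', ← mul_assoc (q * d ^ k)]
        exact mul_mem hq' (hQn.conj_mem _ (inv_mem hq') _)
      have e := eq_one_of_odd (h.elem _ hmem.2) hodd (hpow _ hmem.1)
      rw [mul_inv_eq_one, mul_inv_eq_iff_eq_mul] at e
      exact e
    have hqd : Commute q (d ^ k) := by
      have e := (hcomm q hq).eq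
      rw [mul_assoc q (d ^ k) q] at e
      exact mul_left_cancel e
    have e := hpow _ hz
    rw [hqd.mul_pow] at e
    have hq1 : q ^ Nat.card (oddCore K) ∈ Subgroup.closure {a, d} ⊓ Q := by
      refine Subgroup.mem_inf.2 ⟨?_, pow_mem hq _⟩
      rw [eq_inv_of_mul_eq_one_left e]
      exact inv_mem (pow_mem (zpow_mem (Subgroup.subset_closure (by simp)) k) _)
    rw [h.closure_inf, Subgroup.mem_bot] at hq1
    exact ⟨k, by rw [eq_one_of_odd (h.elem q hq) hodd hq1, one_mul]⟩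
  · exfalso
    obtain ⟨i, hi⟩ := h.rot k
    obtain ⟨j, hj⟩ := DihedralGroup.exists_sr h.odd (x := φ a) (by rw [← map_mul, h.aa, map_one])
      fun e => h.a_not (h.ker ▸ MonoidHom.mem_ker.2 e)
    have h1 : φ (q * (d ^ k * a)) = DihedralGroup.sr (j - i) := by
      rw [map_mul, map_mul, MonoidHom.mem_ker.1 (h.ker.symm ▸ hq), one_mul, hi, hj,
        DihedralGroup.r_mul_sr]
    have h2 := congrArg φ (hpow _ hz)
    rw [map_pow, h1, map_one] at h2
    obtain ⟨t, ht⟩ := hodd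
    rw [ht, pow_succ, pow_mul, pow_two, DihedralGroup.sr_mul_self, one_pow, one_mul] at h2
    rw [DihedralGroup.one_def] at h2
    exact DihedralGroup.noConfusion rfl (heq_of_eq h2)

end Frame

/-- A hom injective on a Sylow 2-subgroup, with image order divisible by 3 in a group of order
`3|P|`. -/
theorem nonempty_quotient_oddCore {T : Type*} [Group T] [Finite T] (φ : K →* T) (P : Subgroup K)
    {e : ℕ} (hP : Nat.card P = 2 ^ e) (hidx : Odd P.index) (hinj : P ⊓ φ.ker = ⊥)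
    (hT : Nat.card T = 3 * 2 ^ e) (h3 : 3 ∣ Nat.card φ.range) (hcore : oddCore K ≤ φ.ker) :
    Nonempty (K ⧸ oddCore K ≃* T) := by
  have h2 : 2 ^ e ∣ Nat.card φ.range := by
    have h1 : Function.Injective (φ.rangeRestrict.comp P.subtype) := by
      rw [injective_iff_map_eq_one]
      intro z hz
      have hzk : (z : K) ∈ P ⊓ φ.ker := ⟨z.2, by simpa using congrArg Subtype.val hz⟩
      rw [hinj, Subgroup.mem_bot] at hzk
      exact Subtype.ext hzk
    rw [← hP]
    exact Subgroup.card_dvd_of_injective _ h1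
  have hr : Nat.card φ.range = 3 * 2 ^ e := Nat.dvd_antisymm
    (hT ▸ Subgroup.card_subgroup_dvd_card φ.range)
    (Nat.Coprime.mul_dvd_of_dvd_of_dvd (Nat.Coprime.pow_right e (by norm_num)) h3 h2)
  have hsurj : Function.Surjective φ :=
    MonoidHom.range_eq_top.1 (Subgroup.eq_top_of_card_eq _ (by rw [hr, hT]))
  have hker : Odd (Nat.card φ.ker) := by
    have h4 := Subgroup.card_mul_index φ.ker
    rw [Subgroup.index_ker, hr, ← Subgroup.card_mul_index P, hP] at h4
    have h5 : Nat.card φ.ker * 3 = P.index :=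
      Nat.eq_of_mul_eq_mul_left (Nat.two_pow_pos e) (by rw [← h4]; ring)
    exact (Nat.odd_mul.1 (h5 ▸ hidx)).1
  have hcn : (oddCore K).Normal := Subgroup.sSup_normal _ fun _ hN => hN.1
  exact ⟨(QuotientGroup.quotientMulEquivOfEq
    (le_antisymm hcore (ExtremelyClosed.le_oddCore_of_odd φ.normal_ker hker))).trans
    (QuotientGroup.quotientKerEquivOfSurjective φ hsurj)⟩

namespace Frame

variable {n : ℕ} {φ : K →* DihedralGroup n} {Q : Subgroup K} {a b d : K}

theorem klein (h : Frame n φ Q a b d) (hQ : Nat.card Q = 2) {P : Subgroup K} (hP : Nat.card P = 4)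
    (hPtwo : IsPGroup 2 P) :
    Nonempty (K ⧸ oddCore K ≃* Multiplicative (ZMod 2) × Multiplicative (ZMod 2)) := by
  have hQn : Q.Normal := h.ker ▸ φ.normal_ker
  have hcen : ∀ q ∈ Q, ∀ z : K, z * q = q * z := by
    intro q hq z
    by_cases hq1 : q = 1
    · simp [hq1]
    have hm : z * q * z⁻¹ ∈ Q := hQn.conj_mem _ hq z
    have : Subsingleton {w : Q // w ≠ 1} := by
      rw [← Finite.card_le_one_iff_subsingleton]
      classical
      have := Fintype.ofFinite Q
      rw [Nat.card_eq_fintype_card, Fintype.card_subtype_compl, Fintype.card_subtype_eq,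
        ← Nat.card_eq_fintype_card, hQ]
    have h1 := Subsingleton.elim (α := {w : Q // w ≠ 1})
      ⟨⟨_, hm⟩, fun e => hq1 (conj_eq_one_iff.1 (congrArg Subtype.val e))⟩
      ⟨⟨q, hq⟩, fun e => hq1 (congrArg Subtype.val e)⟩
    have h2 : z * q * z⁻¹ = q := congrArg (fun w => (w.1 : K)) h1
    rwa [mul_inv_eq_iff_eq_mul] at h2
  have hNn : (Subgroup.zpowers d).Normal := by
    rw [← Subgroup.normalizer_eq_top_iff, eq_top_iff]
    refine h.sup_eq_top.ge.trans (sup_le (fun q hq => ?_) ((Subgroup.closure_le _).2 ?_))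
    · rw [Subgroup.mem_normalizer_iff]
      intro w
      rw [← hcen q hq w, mul_inv_cancel_right]
    · rintro z (rfl | rfl)
      · rw [SetLike.mem_coe, Subgroup.mem_normalizer_iff]
        intro w
        have key : ∀ v ∈ Subgroup.zpowers d, z * v * z⁻¹ ∈ Subgroup.zpowers d := by
          rintro _ ⟨k, rfl⟩
          exact ⟨-k, by simp only [← conj_zpow, h.ada, inv_zpow, zpow_neg]⟩
        refine ⟨key w, fun hw => ?_⟩
        have := key _ hw
        rwa [show z * (z * w * z⁻¹) * z⁻¹ = z * z * w * (z * z)⁻¹ by group, h.aa, one_mul,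
          inv_one, mul_one] at this
      · exact Subgroup.le_normalizer (Subgroup.mem_zpowers _)
  have hNodd : Odd (Nat.card (Subgroup.zpowers d)) := by
    rw [Nat.card_zpowers]
    exact Odd.of_dvd_nat h.odd (orderOf_dvd_of_pow_eq_one h.dn)
  have hN : oddCore K = Subgroup.zpowers d :=
    le_antisymm (fun z hz => let ⟨k, hk⟩ := h.oddCore_mem hz; ⟨k, hk.symm⟩)
      (ExtremelyClosed.le_oddCore_of_odd hNn hNodd)
  have : (oddCore K).Normal := hN ▸ hNn
  have hrep : ∀ x : K ⧸ oddCore K, ∃ q ∈ Q, x = (q : K) ∨ x = ((q * a : K) : K ⧸ oddCore K) := by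
    intro x
    obtain ⟨z, rfl⟩ := QuotientGroup.mk_surjective x
    obtain ⟨q, hq, s, hs, rfl⟩ := h.exists_eq z
    refine ⟨q, hq, ?_⟩
    obtain ⟨k, rfl | rfl⟩ := h.mem_closure hs
    · refine Or.inl (QuotientGroup.eq.2 ?_)
      rw [hN, mul_inv_rev, mul_assoc, inv_mul_cancel, mul_one]
      exact inv_mem ⟨k, rfl⟩
    · refine Or.inr ((QuotientGroup.eq_iff_div_mem).2 ?_)
      rw [hN, div_eq_mul_inv, mul_inv_rev,
        show q * (d ^ k * a) * (a⁻¹ * q⁻¹) = q * d ^ k * q⁻¹ by group, ← hcen q hq (d ^ k),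
        mul_inv_cancel_right]
      exact ⟨k, rfl⟩
  have h2 : ∀ x : K ⧸ oddCore K, x * x = 1 := by
    intro x
    obtain ⟨q, hq, rfl | rfl⟩ := hrep x
    · rw [← QuotientGroup.mk_mul, h.elem q hq, QuotientGroup.mk_one]
    · rw [← QuotientGroup.mk_mul, show q * a * (q * a) = q * (a * q) * a by group, hcen q hq a,
        ← mul_assoc, h.elem q hq, one_mul, h.aa, QuotientGroup.mk_one]
  have hle : Nat.card (K ⧸ oddCore K) ≤ 4 := by
    refine (Nat.card_le_card_of_surjective (fun p : Q × Bool =>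
      (((p.1 : K) * (if p.2 then a else 1) : K) : K ⧸ oddCore K)) fun x => ?_).trans ?_
    · obtain ⟨q, hq, rfl | rfl⟩ := hrep x
      · exact ⟨(⟨q, hq⟩, false), by simp⟩
      · exact ⟨(⟨q, hq⟩, true), by simp⟩
    · rw [Nat.card_prod, hQ, Nat.card_eq_fintype_card, Fintype.card_bool]
  have hge : 4 ≤ Nat.card (K ⧸ oddCore K) := by
    rw [← hP]
    refine Nat.card_le_card_of_injective (fun p : P => ((p : K) : K ⧸ oddCore K)) fun p p' e => ?_
    rw [QuotientGroup.eq] at e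
    have hd : Disjoint P (oddCore K) := Subgroup.disjoint_of_coprime_natCard (by
      obtain ⟨e, he⟩ := IsPGroup.iff_card.1 hPtwo
      rw [he]
      exact Nat.Coprime.pow_left _ (Nat.coprime_two_left.2 (ExtremelyClosed.odd_card_oddCore' K)))
    exact Subtype.ext (inv_mul_eq_one.1
      (Subgroup.disjoint_def.1 hd (mul_mem (inv_mem p.2) p'.2) e))
  have : IsKleinFour (Multiplicative (ZMod 2) × Multiplicative (ZMod 2)) := by
    refine ⟨by simp, ?_⟩
    refine (Monoid.exponent_eq_prime_iff (p := 2) Nat.prime_two).2 fun g hg => ?_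
    exact orderOf_eq_prime ((by decide : ∀ w : Multiplicative (ZMod 2) × Multiplicative (ZMod 2),
      w ^ 2 = 1) g) hg
  have hnt : Nontrivial (K ⧸ oddCore K) := Finite.one_lt_card_iff_nontrivial.1 (by omega)
  have : IsKleinFour (K ⧸ oddCore K) := by
    refine ⟨by omega, (Monoid.exponent_eq_prime_iff (p := 2) Nat.prime_two).2 fun g hg => ?_⟩
    exact orderOf_eq_prime (by rw [pow_two, h2]) hg
  exact IsKleinFour.nonempty_mulEquiv

/-- `Q = ⟨u, v⟩ × F` with `F` central. -/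
structure Natural (Q F : Subgroup K) (a b u v : K) : Prop where
  uQ : u ∈ Q
  vQ : v ∈ Q
  F_le : F ≤ Q
  F_cen : ∀ f ∈ F, ∀ z : K, z * f = f * z
  uF : u ∉ F
  vF : v ∉ F
  uvF : u * v ∉ F
  dec : ∀ q ∈ Q, ∃ f ∈ F, q = f ∨ q = u * f ∨ q = v * f ∨ q = u * v * f
  au : a * u * a = u
  av : a * v * a = u * v
  bu : b * u * b = u * v
  bv : b * v * b = v

theorem sym4 (h : Frame n φ Q a b d) {F : Subgroup K} {u v : K} (hn : Natural Q F a b u v)
    {P : Subgroup K} (hPdec : ∀ z ∈ P, z ∈ Q ∨ z * b ∈ Q) (hidx : Odd P.index)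
    (hQc : Nat.card P = 8 * Nat.card F) :
    (Nat.card F = 1 → Nonempty (K ⧸ oddCore K ≃* Equiv.Perm (Fin 4))) ∧
    (Nat.card F = 2 →
      Nonempty (K ⧸ oddCore K ≃* Equiv.Perm (Fin 4) × Multiplicative (ZMod 2))) := by
  have hQn : Q.Normal := h.ker ▸ φ.normal_ker
  have hai : a⁻¹ = a := inv_eq_of_mul_eq_one_right h.aa
  have hbi : b⁻¹ = b := inv_eq_of_mul_eq_one_right h.bb
  obtain ⟨S, hS⟩ : ∃ S, S = Subgroup.closure {a, d} := ⟨_, rfl⟩
  have haS : a ∈ S := hS ▸ Subgroup.subset_closure (by simp)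
  have hdS : d ∈ S := hS ▸ Subgroup.subset_closure (by simp)
  have hdu : d * u * d⁻¹ = v := by
    rw [h.dQ u hn.uQ, mul_inv_rev, hai, hbi]
    calc a * b * u * (b * a) = a * (b * u * b) * a := by group
      _ = a * u * (v * a) := by rw [hn.bu]; group
      _ = a * u * a * (a * v * a) := by
          rw [show a * u * a * (a * v * a) = a * u * (a * a) * (v * a) by group, h.aa, mul_one]
      _ = u * (u * v) := by rw [hn.au, hn.av]
      _ = v := by rw [← mul_assoc, h.elem u hn.uQ, one_mul]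
  have hdv : d * v * d⁻¹ = u * v := by
    rw [h.dQ v hn.vQ, mul_inv_rev, hai, hbi]
    calc a * b * v * (b * a) = a * (b * v * b) * a := by group
      _ = u * v := by rw [hn.bv, hn.av]
  obtain ⟨W, hW⟩ : ∃ W, W = Subgroup.closure ({u, v} : Set K) := ⟨_, rfl⟩
  have huW : u ∈ W := hW ▸ Subgroup.subset_closure (by simp)
  have hvW : v ∈ W := hW ▸ Subgroup.subset_closure (by simp)
  have hWQ : W ≤ Q := hW ▸ (Subgroup.closure_le _).2 (by
    rintro z (rfl | rfl)
    exacts [hn.uQ, hn.vQ])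
  have hWelem : ∀ w ∈ W, w = 1 ∨ w = u ∨ w = v ∨ w = u * v := by
    have uu := h.elem u hn.uQ
    have vv := h.elem v hn.vQ
    have vu := h.comm v hn.vQ u hn.uQ
    intro w hw
    rw [hW] at hw
    induction hw using Subgroup.closure_induction with
    | mem z hz =>
      rcases hz with rfl | rfl
      · exact Or.inr (Or.inl rfl)
      · exact Or.inr (Or.inr (Or.inl rfl))
    | one => exact Or.inl rfl
    | mul x y _ _ hx hy =>
      have e1 : u * (u * v) = v := by rw [← mul_assoc, uu, one_mul]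
      have e2 : v * (u * v) = u := by rw [← mul_assoc, vu, mul_assoc, vv, mul_one]
      have e3 : u * v * u = v := by rw [mul_assoc, vu, e1]
      have e4 : u * v * v = u := by rw [mul_assoc, vv, mul_one]
      have e5 : u * v * (u * v) = 1 := by rw [mul_assoc, e2, uu]
      rcases hx with rfl | rfl | rfl | rfl <;> rcases hy with rfl | rfl | rfl | rfl <;>
        simp [uu, vv, vu, e1, e2, e3, e4, e5]
    | inv x hx' hx =>
      have hxQ : x ∈ Q := hWQ (hW ▸ hx')
      rw [inv_eq_of_mul_eq_one_right (h.elem x hxQ)]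
      exact hx
  have hWF : W ⊓ F = ⊥ := by
    rw [eq_bot_iff]
    rintro w ⟨hw, hwF⟩
    rcases hWelem w hw with rfl | rfl | rfl | rfl
    exacts [rfl, absurd hwF hn.uF, absurd hwF hn.vF, absurd hwF hn.uvF]
  have hdec : ∀ q ∈ Q, ∃ w ∈ W, ∃ f ∈ F, q = w * f := fun q hq => by
    obtain ⟨f, hf, rfl | rfl | rfl | rfl⟩ := hn.dec q hq
    · exact ⟨1, one_mem _, q, hf, (one_mul q).symm⟩
    · exact ⟨u, huW, f, hf, rfl⟩
    · exact ⟨v, hvW, f, hf, rfl⟩
    · exact ⟨_, mul_mem huW hvW, f, hf, rfl⟩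
  have hWn : W.Normal := by
    rw [← Subgroup.normalizer_eq_top_iff, eq_top_iff]
    have key : ∀ z : K, z * u * z⁻¹ ∈ W → z * v * z⁻¹ ∈ W →
        z ∈ Subgroup.normalizer (W : Set K) := fun z h1 h2 => by
      rw [Subgroup.mem_normalizer_iff]
      have hmap : W.map (MulAut.conj z).toMonoidHom ≤ W := by
        conv_lhs => rw [hW]
        rw [MonoidHom.map_closure, Subgroup.closure_le]
        rintro _ ⟨x, rfl | rfl, rfl⟩
        exacts [h1, h2]
      have heq := Subgroup.eq_of_le_of_card_ge hmap (Nat.card_congr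
        (W.equivMapOfInjective _ (MulAut.conj z).injective).toEquiv).le
      intro w
      constructor
      · intro hw; exact hmap ⟨w, hw, rfl⟩
      · intro hw
        rw [← heq] at hw
        obtain ⟨x, hx, hxe⟩ := hw
        exact (MulAut.conj z).injective hxe ▸ hx
    refine h.sup_eq_top.ge.trans (sup_le (fun q hq => key q ?_ ?_) ((Subgroup.closure_le _).2 ?_))
    · rw [h.comm q hq u hn.uQ, mul_inv_cancel_right]; exact huW
    · rw [h.comm q hq v hn.vQ, mul_inv_cancel_right]; exact hvW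
    · rintro z (rfl | rfl)
      · refine key z ?_ ?_
        · rw [hai, hn.au]; exact huW
        · rw [hai, hn.av]; exact mul_mem huW hvW
      · refine key z ?_ ?_
        · rw [hdu]; exact hvW
        · rw [hdv]; exact mul_mem huW hvW
  have hFn : F.Normal := ⟨fun f hf z => by rwa [hn.F_cen f hf z, mul_inv_cancel_right]⟩
  have hsplit : ∀ z : K, ∃ w ∈ W, ∃ m ∈ S ⊔ F, z = w * m := fun z => by
    obtain ⟨q, hq, s, hs, rfl⟩ := h.exists_eq z
    obtain ⟨w, hw, f, hf, rfl⟩ := hdec q hq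
    exact ⟨w, hw, f * s, mul_mem (Subgroup.mem_sup_right hf) (Subgroup.mem_sup_left (hS ▸ hs)),
      mul_assoc w f s⟩
  have hSFQ : ∀ z ∈ Q, z ∈ S ⊔ F → z ∈ F := fun z hzQ hz => by
    rw [Subgroup.mem_sup_of_normal_right] at hz
    obtain ⟨s, hs, f, hf, rfl⟩ := hz
    have hsQ : s ∈ Subgroup.closure {a, d} ⊓ Q :=
      ⟨hS ▸ hs, (Subgroup.mul_mem_cancel_right Q (hn.F_le hf)).1 hzQ⟩
    rw [h.closure_inf, Subgroup.mem_bot] at hsQ
    rwa [hsQ, one_mul]
  have hcos : Nat.card (K ⧸ (S ⊔ F)) = 4 := by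
    have hbij : Function.Bijective (fun w : W => ((w : K) : K ⧸ (S ⊔ F))) := by
      refine ⟨fun w w' e => ?_, fun x => ?_⟩
      · have e' : (w : K)⁻¹ * w' ∈ S ⊔ F := QuotientGroup.eq.1 e
        have hww : (w : K)⁻¹ * w' ∈ W ⊓ F :=
          Subgroup.mem_inf.2 ⟨mul_mem (inv_mem w.2) w'.2, hSFQ _ (hWQ (mul_mem (inv_mem w.2) w'.2)) e'⟩
        rw [hWF, Subgroup.mem_bot] at hww
        exact Subtype.ext (inv_mul_eq_one.1 hww)
      · obtain ⟨z, rfl⟩ := QuotientGroup.mk_surjective x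
        obtain ⟨w, hw, m, hm, rfl⟩ := hsplit z
        exact ⟨⟨w, hw⟩, QuotientGroup.eq.2 (by simpa using hm)⟩
    rw [← Nat.card_congr (Equiv.ofBijective _ hbij)]
    have hset : (W : Set K) = {1, u, v, u * v} := by
      ext z
      constructor
      · exact hWelem z
      · rintro (rfl | rfl | rfl | rfl)
        exacts [one_mem _, huW, hvW, mul_mem huW hvW]
    have hu1 : u ≠ 1 := fun e => hn.uF (e ▸ one_mem F)
    have hv1 : v ≠ 1 := fun e => hn.vF (e ▸ one_mem F)
    have huv : u ≠ v := fun e => hn.uvF (by rw [e, h.elem v hn.vQ]; exact one_mem F)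
    have huv1 : u * v ≠ 1 := fun e => hn.uvF (e ▸ one_mem F)
    show Nat.card ↥(W : Set K) = 4
    rw [Nat.card_coe_set_eq, hset, Set.ncard_insert_of_notMem, Set.ncard_insert_of_notMem,
      Set.ncard_pair]
    · simp [hu1]
    · simp [huv, hv1]
    · simp [hu1.symm, hv1.symm, huv1.symm]
  have hM : (MulAction.toPermHom K (K ⧸ (S ⊔ F))).ker ≤ S ⊔ F := by
    rw [← Subgroup.normalCore_eq_ker]
    exact Subgroup.normalCore_le _
  have hMP : ∀ z ∈ P, z ∈ (MulAction.toPermHom K (K ⧸ (S ⊔ F))).ker → z ∈ F := by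
    intro z hzP hz
    rcases hPdec z hzP with hzQ | hzb
    · exact hSFQ z hzQ (hM hz)
    · exfalso
      have hc : z * u * z⁻¹ * u⁻¹ ∈ (MulAction.toPermHom K (K ⧸ (S ⊔ F))).ker := by
        rw [mul_assoc, mul_assoc z, ← mul_assoc u]
        exact mul_mem hz ((MonoidHom.normal_ker _).conj_mem _ (inv_mem hz) u)
      have e : z * u * z⁻¹ * u⁻¹ = v := by
        have e1 : z = (z * b) * b := by rw [mul_assoc, h.bb, mul_one]
        calc z * u * z⁻¹ * u⁻¹ = (z * b) * b * u * ((z * b) * b)⁻¹ * u⁻¹ := by rw [← e1]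
          _ = (z * b) * (b * u * b⁻¹) * (z * b)⁻¹ * u⁻¹ := by group
          _ = (z * b) * (u * v) * (z * b)⁻¹ * u⁻¹ := by rw [hbi, hn.bu]
          _ = u * v * u⁻¹ := by
              rw [h.comm _ hzb _ (mul_mem hn.uQ hn.vQ), mul_inv_cancel_right]
          _ = v := by rw [h.comm u hn.uQ v hn.vQ, mul_inv_cancel_right]
      rw [e] at hc
      exact hn.vF (hSFQ v hn.vQ (hM hc))
  have hd : d ∉ (MulAction.toPermHom K (K ⧸ (S ⊔ F))).ker := fun hd => by
    have hc : d * u * d⁻¹ * u⁻¹ ∈ (MulAction.toPermHom K (K ⧸ (S ⊔ F))).ker := by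
      rw [mul_assoc, mul_assoc d, ← mul_assoc u]
      exact mul_mem hd ((MonoidHom.normal_ker _).conj_mem _ (inv_mem hd) u)
    rw [hdu, inv_eq_of_mul_eq_one_right (h.elem u hn.uQ), h.comm v hn.vQ u hn.uQ] at hc
    exact hn.uvF (hSFQ _ (mul_mem hn.uQ hn.vQ) (hM hc))
  have hcore : oddCore K ≤ (MulAction.toPermHom K (K ⧸ (S ⊔ F))).ker := by
    rw [← Subgroup.normalCore_eq_ker]
    have : (oddCore K).Normal := Subgroup.sSup_normal _ fun _ hN => hN.1
    refine Subgroup.normal_le_normalCore.2 fun z hz => ?_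
    obtain ⟨k, rfl⟩ := h.oddCore_mem hz
    exact Subgroup.mem_sup_left (zpow_mem hdS k)
  obtain ⟨e4⟩ : Nonempty (K ⧸ (S ⊔ F) ≃ Fin 4) := ⟨(Finite.equivFin _).trans (finCongr hcos)⟩
  obtain ⟨ψ, hψ⟩ : ∃ ψ : K →* Equiv.Perm (Fin 4),
      ψ = e4.permCongrHom.toMonoidHom.comp (MulAction.toPermHom K (K ⧸ (S ⊔ F))) := ⟨_, rfl⟩
  have hψk : ψ.ker = (MulAction.toPermHom K (K ⧸ (S ⊔ F))).ker := by
    ext z
    rw [hψ, MonoidHom.mem_ker, MonoidHom.mem_ker, MonoidHom.comp_apply]
    exact e4.permCongrHom.map_eq_one_iff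
  rw [← hψk] at hMP hd hcore
  have h3 : orderOf (ψ d) = 3 := by
    have h1 : orderOf (ψ d) ∣ n := orderOf_dvd_of_pow_eq_one (by rw [← map_pow, h.dn, map_one])
    have h2 : orderOf (ψ d) ∣ 24 := by
      refine (orderOf_dvd_natCard (ψ d)).trans ?_
      rw [Nat.card_eq_fintype_card, Fintype.card_perm, Fintype.card_fin]
      decide
    have h4 : orderOf (ψ d) ∣ 3 := by
      refine Nat.Coprime.dvd_of_dvd_mul_left ?_ (show orderOf (ψ d) ∣ 8 * 3 from h2)
      exact (Nat.Coprime.pow_right 3 (Nat.coprime_two_right.2 (Odd.of_dvd_nat h.odd h1)) :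
        Nat.Coprime _ (2 ^ 3))
    rcases (Nat.dvd_prime Nat.prime_three).1 h4 with h5 | h5
    · exact absurd (MonoidHom.mem_ker.2 (orderOf_eq_one_iff.1 h5)) hd
    · exact h5
  constructor
  · intro hF
    have hF1 : F = ⊥ := Subgroup.eq_bot_of_card_eq F hF
    refine nonempty_quotient_oddCore ψ P (e := 3) (by rw [hQc, hF]; rfl) hidx ?_ ?_ ?_ hcore
    · rw [eq_bot_iff]
      exact fun z hz => hF1 ▸ hMP z hz.1 hz.2
    · rw [Nat.card_eq_fintype_card, Fintype.card_perm, Fintype.card_fin]; decide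
    · have h1 := orderOf_dvd_natCard (⟨ψ d, d, rfl⟩ : ψ.range)
      rw [← Subgroup.orderOf_coe] at h1
      exact h3 ▸ h1
  · intro hF
    obtain ⟨N, hN⟩ : ∃ N, N = W ⊔ S := ⟨_, rfl⟩
    have hNn : N.Normal := by
      rw [← Subgroup.normalizer_eq_top_iff, eq_top_iff]
      intro z _
      obtain ⟨w, hw, m, hm, rfl⟩ := hsplit z
      refine mul_mem (Subgroup.le_normalizer (hN ▸ Subgroup.mem_sup_left hw)) ?_
      have hle : S ⊔ F ≤ Subgroup.normalizer (N : Set K) :=
        sup_le (fun s hs => Subgroup.le_normalizer (hN ▸ Subgroup.mem_sup_right hs)) fun f hf => by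
          rw [Subgroup.mem_normalizer_iff]
          intro x
          rw [← hn.F_cen f hf x, mul_inv_cancel_right]
      exact hle hm
    have hNQ : ∀ z ∈ Q, z ∈ N → z ∈ W := fun z hzQ hz => by
      rw [hN, Subgroup.mem_sup_of_normal_left] at hz
      obtain ⟨w, hw, s, hs, rfl⟩ := hz
      have hsQ : s ∈ Subgroup.closure {a, d} ⊓ Q :=
        ⟨hS ▸ hs, (Subgroup.mul_mem_cancel_left Q (hWQ hw)).1 hzQ⟩
      rw [h.closure_inf, Subgroup.mem_bot] at hsQ
      rwa [hsQ, mul_one]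
    have hidxN : Nat.card (K ⧸ N) = 2 := by
      have hbij : Function.Bijective (fun f : F => ((f : K) : K ⧸ N)) := by
        refine ⟨fun f f' e => ?_, fun x => ?_⟩
        · have e' : (f : K)⁻¹ * f' ∈ N := QuotientGroup.eq.1 e
          have hff : (f : K)⁻¹ * f' ∈ W ⊓ F :=
            Subgroup.mem_inf.2 ⟨hNQ _ (hn.F_le (mul_mem (inv_mem f.2) f'.2)) e', mul_mem (inv_mem f.2) f'.2⟩
          rw [hWF, Subgroup.mem_bot] at hff
          exact Subtype.ext (inv_mul_eq_one.1 hff)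
        · obtain ⟨z, rfl⟩ := QuotientGroup.mk_surjective x
          obtain ⟨w, hw, m, hm, rfl⟩ := hsplit z
          rw [Subgroup.mem_sup_of_normal_right] at hm
          obtain ⟨s, hs, f, hf, rfl⟩ := hm
          refine ⟨⟨f, hf⟩, QuotientGroup.eq.2 ?_⟩
          have e : f⁻¹ * (w * (s * f)) = w * s := by
            rw [← mul_assoc w, hn.F_cen f hf, inv_mul_cancel_left]
          show f⁻¹ * (w * (s * f)) ∈ N
          rw [e, hN]
          exact mul_mem (Subgroup.mem_sup_left hw) (Subgroup.mem_sup_right hs)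
      rw [← Nat.card_congr (Equiv.ofBijective _ hbij), hF]
    obtain ⟨e2⟩ : Nonempty ((K ⧸ N) ≃* Multiplicative (ZMod 2)) := by
      have : Fact (Nat.Prime 2) := ⟨Nat.prime_two⟩
      exact ⟨mulEquivOfPrimeCardEq hidxN (by simp)⟩
    obtain ⟨χ, hχ⟩ : ∃ χ : K →* Multiplicative (ZMod 2),
        χ = e2.toMonoidHom.comp (QuotientGroup.mk' N) := ⟨_, rfl⟩
    have hχk : χ.ker = N := by
      ext z
      rw [hχ, MonoidHom.mem_ker, MonoidHom.comp_apply]
      exact e2.map_eq_one_iff.trans (QuotientGroup.eq_one_iff z)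
    refine nonempty_quotient_oddCore (ψ.prod χ) P (e := 4) (by rw [hQc, hF]; rfl) hidx ?_ ?_ ?_ ?_
    · rw [eq_bot_iff, MonoidHom.ker_prod, hχk]
      rintro z ⟨hzP, hz1, hz2⟩
      have hzF := hMP z hzP hz1
      have hzW : z ∈ W ⊓ F := ⟨hNQ z (hn.F_le hzF) hz2, hzF⟩
      rwa [hWF] at hzW
    · rw [Nat.card_prod, Nat.card_eq_fintype_card, Fintype.card_perm, Fintype.card_fin]
      simp
      decide
    · refine dvd_trans ?_ (orderOf_dvd_natCard
        (⟨(ψ.prod χ) d, ⟨d, rfl⟩⟩ : (ψ.prod χ).range))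
      rw [← Subgroup.orderOf_coe]
      show 3 ∣ orderOf ((ψ d, χ d) : Equiv.Perm (Fin 4) × Multiplicative (ZMod 2))
      rw [Prod.orderOf_mk, h3]
      exact Nat.dvd_lcm_left _ _
    · rw [MonoidHom.ker_prod, hχk]
      refine le_inf hcore fun z hz => ?_
      obtain ⟨k, rfl⟩ := h.oddCore_mem hz
      exact hN ▸ Subgroup.mem_sup_right (zpow_mem hdS k)

end Frame

end CfsgLib.DihedralEdge
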