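import Cfsg.Agent.DihedralEdge.Bound
import Cfsg.Agent.DihedralEdge.Identify

/-!
# A subgroup with dihedral quotient by `O₂` and an outer element normalizing its Sylow 2-subgroup

`main`: the structure of `H` from the shift sequence.
-/

set_option autoImplicit false
set_option maxHeartbeats 400000
set_option linter.unusedSectionVars false

namespace CfsgLib.DihedralEdge

open scoped Pointwise
open Cfsg

variable {G : Type*} [Group G] [Finite G]

/-- The quotient map onto the dihedral group, and oddness of `n`. -/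
theorem exists_hom {K : Type*} [Group K] [Finite K] {n : ℕ} (hn : 2 ≤ n)
    (hdih : Nonempty (K ⧸ pCore 2 K ≃* DihedralGroup n)) :
    Odd n ∧ ∃ φ : K →* DihedralGroup n, Function.Surjective φ ∧ φ.ker = pCore 2 K := by
  obtain ⟨e⟩ := hdih
  have hcn : (pCore 2 K).Normal := Subgroup.sSup_normal _ fun _ hN => hN.1
  obtain ⟨φ, hφ⟩ : ∃ φ : K →* DihedralGroup n,
      φ = e.toMonoidHom.comp (QuotientGroup.mk' (pCore 2 K)) := ⟨_, rfl⟩
  have hsurj : Function.Surjective φ := by
    rw [hφ]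
    exact e.surjective.comp (QuotientGroup.mk'_surjective _)
  have hker : φ.ker = pCore 2 K := by
    ext z
    rw [hφ, MonoidHom.mem_ker, MonoidHom.comp_apply]
    exact e.map_eq_one_iff.trans (QuotientGroup.eq_one_iff z)
  refine ⟨?_, φ, hsurj, hker⟩
  rw [← Nat.not_even_iff_odd]
  rintro ⟨j, rfl⟩
  have hp2 : IsPGroup 2 φ.ker := hker ▸ PLocal.isPGroup_pCore 2 K
  obtain ⟨z, hz⟩ : ∃ z : DihedralGroup (j + j), z = DihedralGroup.r (j : ZMod (j + j)) := ⟨_, rfl⟩
  have hz2 : z * z = 1 := by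
    rw [hz, DihedralGroup.r_mul_r, ← Nat.cast_add, ZMod.natCast_self, DihedralGroup.r_zero]
  have hneg : -(j : ZMod (j + j)) = j := neg_eq_of_add_eq_zero_left
    (by rw [← Nat.cast_add, ZMod.natCast_self])
  have hzc : ∀ x, x * z * x⁻¹ = z := by
    intro x
    rw [hz]
    cases x with
    | r i => rw [DihedralGroup.r_mul_r, DihedralGroup.inv_r, DihedralGroup.r_mul_r]; simp
    | sr i =>
      rw [DihedralGroup.sr_mul_r, DihedralGroup.inv_sr, DihedralGroup.sr_mul_sr, sub_add_cancel_left,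
        hneg]
  have hZn : (Subgroup.zpowers z).Normal := ⟨by
    rintro _ ⟨k, rfl⟩ x
    exact ⟨k, by simp only [← conj_zpow, hzc]⟩⟩
  have hZp : IsPGroup 2 (Subgroup.zpowers z) := by
    rintro ⟨_, k, rfl⟩
    refine ⟨1, Subtype.ext ?_⟩
    show (z ^ k) ^ 2 ^ 1 = 1
    rw [pow_one, pow_two, ← (Commute.refl z).mul_zpow, hz2, one_zpow]
  have hle : (Subgroup.zpowers z).comap φ ≤ pCore 2 K :=
    le_sSup ⟨Subgroup.normal_comap φ, hZp.comap_of_ker_isPGroup φ hp2⟩
  obtain ⟨w, hw⟩ := hsurj z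
  have hwc : w ∈ pCore 2 K := hle (by
    rw [Subgroup.mem_comap, hw]; exact Subgroup.mem_zpowers z)
  rw [← hker, MonoidHom.mem_ker, hw, hz, DihedralGroup.one_def] at hwc
  injection hwc with h1
  have h2 := Nat.le_of_dvd (by omega) ((ZMod.natCast_eq_zero_iff _ _).1 h1)
  omega

theorem exists_setting {n : ℕ} (H : Subgroup G) (hO : pCore 2 ↥H ≠ ⊥) (hodd : Odd n) (hn1 : n ≠ 1)
    {φ : H →* DihedralGroup n} (hsurj : Function.Surjective φ) (hker : φ.ker = pCore 2 H)
    {P : Subgroup G} (hPH : P ≤ H) (hP : IsPGroup 2 P) (hPsyl : ¬ 2 ∣ P.relIndex H) {y : G}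
    (hy2 : y ^ 2 ∈ P ⊔ Subgroup.centralizer (P : Set G)) (hyN : MulAut.conj y • P = P)
    (hyQ : ∀ Q : Subgroup G, Q ≤ P → (Q.subgroupOf H).Normal → MulAut.conj y • Q = Q → Q = ⊥) :
    ∃ c, Setting H P ((pCore 2 H).map H.subtype) c y := by
  have : Fact (Nat.Prime 2) := ⟨Nat.prime_two⟩
  have hn0 : NeZero n := ⟨by rintro rfl; exact absurd hodd (by decide)⟩
  have hQn : (pCore 2 H).Normal := hker ▸ φ.normal_ker
  obtain ⟨P', hP'⟩ : ∃ P', P' = P.subgroupOf H := ⟨_, rfl⟩
  have hP'p : IsPGroup 2 P' := hP' ▸ hP.of_equiv (Subgroup.subgroupOfEquivOfLe hPH).symm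
  have hP'i : ¬ 2 ∣ P'.index := hP' ▸ hPsyl
  have hQP : pCore 2 H ≤ P' := by
    have h1 : pCore 2 H ≤ (hP'p.toSylow hP'i : Subgroup H) :=
      sSup_le fun N hN => haveI := hN.1; IsPGroup.le_sylow_of_normal hN.2 _
    exact h1
  have hcardP' : Nat.card P' = Nat.card P :=
    hP' ▸ Nat.card_congr (Subgroup.subgroupOfEquivOfLe hPH).toEquiv
  have hcard : Nat.card P' = 2 * Nat.card (pCore 2 H) := by
    have h1 := Subgroup.card_mul_index (pCore 2 H)
    have h2 : (pCore 2 H).index = 2 * n := by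
      rw [← hker, Subgroup.index_ker, MonoidHom.range_eq_top.2 hsurj, Subgroup.card_top,
        DihedralGroup.nat_card]
    rw [h2, ← Subgroup.card_mul_index P'] at h1
    obtain ⟨e, he⟩ := IsPGroup.iff_card.1 hP'p
    obtain ⟨f, hf⟩ := IsPGroup.iff_card.1 (PLocal.isPGroup_pCore 2 H)
    rw [he, hf] at h1 ⊢
    refine Nat.dvd_antisymm ?_ ?_
    · refine Nat.Coprime.dvd_of_dvd_mul_right (Nat.Coprime.pow_left e
        (Nat.coprime_two_left.2 hodd)) ⟨P'.index, ?_⟩
      rw [← h1]; ring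
    · refine Nat.Coprime.dvd_of_dvd_mul_right (k := 2 * 2 ^ f) (n := P'.index) ?_ ⟨n, by rw [← h1]; ring⟩
      rw [← pow_succ']
      exact Nat.Coprime.pow_left _ (Nat.coprime_two_left.2
        (Nat.odd_iff.2 (Nat.two_dvd_ne_zero.1 hP'i)))
  have hlt : ¬ P' ≤ pCore 2 H := fun hle => by
    have h1 := Subgroup.card_le_of_le hle
    have := Nat.card_pos (α := pCore 2 H)
    omega
  obtain ⟨p, hp, hpQ⟩ := Set.not_subset.1 hlt
  have hmul : ∀ z ∈ P', z ∉ pCore 2 H → p * z ∈ pCore 2 H := fun z hz hz' =>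
    Shift.mul_mem_of_half hQP hcard hp hpQ hz hz'
  have hp2 : φ p * φ p = 1 := by
    rw [← map_mul]
    exact MonoidHom.mem_ker.1 (hker ▸ hmul p hp hpQ)
  obtain ⟨k, hk⟩ := DihedralGroup.exists_sr hodd hp2
    fun e => hpQ (hker ▸ MonoidHom.mem_ker.2 e)
  have himg : ∀ z ∈ P', z ∈ pCore 2 H ∨ φ z = DihedralGroup.sr k := fun z hz => by
    by_cases hz' : z ∈ pCore 2 H
    · exact Or.inl hz'
    · refine Or.inr ?_
      have h1 : φ (p * z) = 1 := MonoidHom.mem_ker.1 (hker ▸ hmul z hz hz')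
      rw [map_mul, mul_eq_one_iff_eq_inv', hk, DihedralGroup.inv_sr] at h1
      exact h1
  obtain ⟨c, hc⟩ := hsurj (DihedralGroup.r 1)
  have h2ne : (2 : ZMod n) ≠ 0 := by
    intro e
    have h1 : n ∣ 2 := (ZMod.natCast_eq_zero_iff 2 n).1 (by exact_mod_cast e)
    rcases (Nat.dvd_prime Nat.prime_two).1 h1 with rfl | rfl
    · exact hn1 rfl
    · exact absurd hodd (by decide)
  have hcp : φ (c * p * c⁻¹) = DihedralGroup.sr (k - 2) := by
    rw [map_mul, map_mul, map_inv, hc, hk, DihedralGroup.r_mul_sr, DihedralGroup.inv_r,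
      DihedralGroup.sr_mul_r]
    congr 1
    ring
  have hmemP' : ∀ z : H, z ∈ P' ↔ (z : G) ∈ P := fun z => by rw [hP', Subgroup.mem_subgroupOf]
  refine ⟨c, hP, hPH, c.2, ?_, ?_, ?_, ?_, hyN, ?_, hy2, ?_⟩
  · intro z hz
    obtain ⟨X, hX⟩ : ∃ X, X = (P ⊔ MulAut.conj (c : G) • P).subgroupOf H := ⟨_, rfl⟩
    have hpX : p ∈ X := hX ▸ Subgroup.mem_sup_left ((hmemP' p).1 hp)
    have hcX : c * p * c⁻¹ ∈ X := hX ▸ Subgroup.mem_sup_right (conj_mem_conjS ((hmemP' p).1 hp))
    have hQX : pCore 2 H ≤ X := fun q hq => hX ▸ Subgroup.mem_sup_left ((hmemP' q).1 (hQP hq))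
    have hr2 : DihedralGroup.r (2 : ZMod n) ∈ X.map φ := by
      refine ⟨c * p * c⁻¹ * p, mul_mem hcX hpX, ?_⟩
      rw [map_mul, hcp, hk, DihedralGroup.sr_mul_sr, sub_sub_cancel]
    have hr : ∀ i : ZMod n, DihedralGroup.r i ∈ X.map φ := by
      intro i
      obtain ⟨t, ht⟩ := hodd
      have h1 : DihedralGroup.r i = (DihedralGroup.r (2 : ZMod n)) ^ ((t + 1) * i.val) := by
        rw [DihedralGroup.r_pow]
        congr 1
        have h2 : ((2 * (t + 1) : ℕ) : ZMod n) = 1 := by
          rw [show 2 * (t + 1) = n + 1 by omega, Nat.cast_add, ZMod.natCast_self, zero_add,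
            Nat.cast_one]
        rw [Nat.cast_mul, ZMod.natCast_zmod_val, ← mul_assoc]
        push_cast at h2 ⊢
        rw [h2, one_mul]
      rw [h1]
      exact pow_mem hr2 _
    have hall : φ ⟨z, hz⟩ ∈ X.map φ := by
      cases φ ⟨z, hz⟩ with
      | r i => exact hr i
      | sr i =>
        have h1 := mul_mem (⟨p, hpX, hk⟩ : DihedralGroup.sr k ∈ X.map φ) (hr (i - k))
        rwa [DihedralGroup.sr_mul_r, add_sub_cancel] at h1
    obtain ⟨x, hx, hxe⟩ := hall
    have hq : x⁻¹ * ⟨z, hz⟩ ∈ X := hQX (by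
      rw [← hker, MonoidHom.mem_ker, map_mul, map_inv, hxe, inv_mul_cancel])
    have hzX : (⟨z, hz⟩ : H) ∈ X := by
      have := mul_mem hx hq
      rwa [mul_inv_cancel_left] at this
    rw [hX] at hzX
    exact hzX
  · ext z
    constructor
    · rintro ⟨hz1, hz2⟩
      refine ⟨⟨z, hPH hz1⟩, ?_, rfl⟩
      rcases himg ⟨z, hPH hz1⟩ ((hmemP' _).2 hz1) with h1 | h1
      · exact h1
      exfalso
      have hz2' : c⁻¹ * ⟨z, hPH hz1⟩ * c ∈ P' := (hmemP' _).2 (mem_conjS.1 hz2)
      rcases himg _ hz2' with h3 | h3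
      · have h4 : (⟨z, hPH hz1⟩ : H) ∈ pCore 2 H := by
          have := hQn.conj_mem _ h3 c
          rwa [show c * (c⁻¹ * ⟨z, hPH hz1⟩ * c) * c⁻¹ = ⟨z, hPH hz1⟩ by group] at this
        rw [← hker, MonoidHom.mem_ker, h1, DihedralGroup.one_def] at h4
        exact DihedralGroup.noConfusion rfl (heq_of_eq h4)
      · rw [map_mul, map_mul, map_inv, h1, hc, DihedralGroup.inv_r, DihedralGroup.r_mul_sr,
          DihedralGroup.sr_mul_r] at h3
        injection h3 with h4
        refine h2ne ?_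
        linear_combination h4
    · rintro ⟨q, hq, rfl⟩
      refine ⟨(hmemP' q).1 (hQP hq), mem_conjS.2 ?_⟩
      have := hQn.conj_mem _ hq c⁻¹
      rw [inv_inv] at this
      exact (hmemP' _).1 (hQP this)
  · refine mem_normalizer_iff_conjS.1 ?_
    rw [Subgroup.mem_normalizer_iff]
    intro z
    constructor
    · rintro ⟨q, hq, rfl⟩
      exact ⟨c * q * c⁻¹, hQn.conj_mem _ hq c, rfl⟩
    · rintro ⟨q, hq, hqe⟩
      refine ⟨c⁻¹ * q * c, ?_, ?_⟩
      · have := hQn.conj_mem _ hq c⁻¹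
        rwa [inv_inv] at this
      · have hqe' : (q : G) = c * z * (c : G)⁻¹ := hqe
        show ((c : G)⁻¹ * q * c : G) = z
        rw [hqe']; group
  · rw [Subgroup.card_map_of_injective H.subtype_injective, ← hcard, hcardP']
  · intro e
    refine hO ?_
    have h1 := hyQ _ (by rintro z ⟨q, hq, rfl⟩; exact (hmemP' q).1 (hQP hq)) ?_ e
    · rwa [Subgroup.map_eq_bot_iff_of_injective _ H.subtype_injective] at h1
    · rw [Subgroup.subgroupOf, Subgroup.comap_map_eq_self_of_injective H.subtype_injective]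
      exact hQn
  · intro N hN hHn hyNN
    exact hyQ N hN ((Subgroup.normal_subgroupOf_iff_le_normalizer (hN.trans hPH)).2 hHn) hyNN

/-- The structure of `H`. -/
theorem main {n : ℕ} (H : Subgroup G) (hO : pCore 2 ↥H ≠ ⊥) (hn : 2 ≤ n)
    (hdih : Nonempty (↥H ⧸ pCore 2 ↥H ≃* DihedralGroup n))
    {P : Subgroup G} (hPH : P ≤ H) (hP : IsPGroup 2 P) (hPsyl : ¬ 2 ∣ P.relIndex H) {y : G}
    (hy2 : y ^ 2 ∈ P ⊔ Subgroup.centralizer (P : Set G)) (hyN : MulAut.conj y • P = P)
    (hyQ : ∀ Q : Subgroup G, Q ≤ P → (Q.subgroupOf H).Normal → MulAut.conj y • Q = Q → Q = ⊥) :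
    (Nat.card P = 4 ∨ Nat.card P = 8 ∨ Nat.card P = 16) ∧
    (Nonempty (↥H ⧸ oddCore ↥H ≃* Multiplicative (ZMod 2) × Multiplicative (ZMod 2)) ∨
     Nonempty (↥H ⧸ oddCore ↥H ≃* Equiv.Perm (Fin 4)) ∨
     Nonempty (↥H ⧸ oddCore ↥H ≃* Equiv.Perm (Fin 4) × Multiplicative (ZMod 2))) := by
  obtain ⟨hodd, φ, hsurj, hker⟩ := exists_hom hn hdih
  obtain ⟨c, h⟩ := exists_setting H hO hodd (by omega) hsurj hker hPH hP hPsyl hy2 hyN hyQ
  obtain ⟨m, e, hm, s⟩ := h.exists_shift
  have hm2 := h.two_le hm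
  have hmemQ : ∀ z : H, z ∈ pCore 2 H ↔ (z : G) ∈ win P (y * c) m 0 (m - 1) := fun z => by
    rw [h.win_zero_eq s]
    exact ⟨fun hz => ⟨z, hz, rfl⟩, fun ⟨q, hq, hqe⟩ => Subtype.ext hqe ▸ hq⟩
  have hxH : ∀ i : ℤ, -1 ≤ i → i < m → seq (y * c) e m i ∈ H := by
    intro i h1 h2
    rcases eq_or_lt_of_le h1 with rfl | h3
    · have hz : seq (y * c) e m (-1) ∈ MulAut.conj c⁻¹ • P :=
        h.win_neg s ▸ s.seq_mem le_rfl le_rfl (by omega)
      rw [mem_conjS, inv_inv] at hz
      have h4 := mul_mem (mul_mem (inv_mem h.cH) (hPH hz)) h.cH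
      rwa [show c⁻¹ * (c * seq (y * c) e m (-1) * c⁻¹) * c = seq (y * c) e m (-1) by group] at h4
    · exact hPH (s.win_top ▸ s.seq_mem le_rfl (by omega) (by omega))
  obtain ⟨a, ha⟩ : ∃ a : H, (a : G) = seq (y * c) e m (-1) :=
    ⟨⟨_, hxH (-1) le_rfl (by omega)⟩, rfl⟩
  obtain ⟨b, hb⟩ : ∃ b : H, (b : G) = seq (y * c) e m ((m : ℤ) - 1) :=
    ⟨⟨_, hxH _ (by omega) (by omega)⟩, rfl⟩
  have hdata : ∀ lam, m ≤ lam + 1 → Shift.CommBelow (y * c) e m lam →
      Data n φ (pCore 2 H) a b := by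
    intro lam hlam hc
    refine ⟨hodd, by omega, hker, ?_, ?_, ?_, ?_, ?_, ?_, ?_⟩
    · exact fun q hq => Subtype.ext (s.win_mul_self hc (by omega) (by omega) ((hmemQ q).1 hq))
    · exact fun q hq q' hq' => Subtype.ext (s.win_commute hc (show m - 1 ≤ m by omega)
        (show m - 1 ≤ m by omega) (by omega) (by omega) ((hmemQ q).1 hq) ((hmemQ q').1 hq')).eq
    · exact Subtype.ext (by push_cast; rw [ha]; exact s.seq_mul_self _)
    · exact Subtype.ext (by push_cast; rw [hb]; exact s.seq_mul_self _)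
    · rw [hmemQ, ha]
      have := s.seq_not_mem_left (show m - 1 < m by omega) (-1)
      rwa [show (-1 : ℤ) + 1 = 0 from rfl] at this
    · rw [hmemQ, hb]
      have := s.seq_not_mem_right (show m - 1 < m by omega) 0
      rwa [zero_add, show ((m - 1 : ℕ) : ℤ) = (m : ℤ) - 1 by omega] at this
    · intro z _
      have hle : H ≤ (pCore 2 H ⊔ Subgroup.closure {a, b}).map H.subtype := by
        refine h.le_of_gens s fun i h1 h2 => ⟨⟨_, hxH i h1 h2⟩, ?_, rfl⟩
        rcases eq_or_lt_of_le h1 with he | hlt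
        · refine Subgroup.mem_sup_right (Subgroup.subset_closure (Or.inl (Subtype.ext ?_)))
          exact (congrArg (seq (y * c) e m) he).symm.trans ha.symm
        rcases eq_or_lt_of_le (show i ≤ (m : ℤ) - 1 by omega) with he | hlt2
        · refine Subgroup.mem_sup_right (Subgroup.subset_closure (Or.inr (Subtype.ext ?_)))
          exact (congrArg (seq (y * c) e m) he).trans hb.symm
        · refine Subgroup.mem_sup_left ((hmemQ _).2 ?_)
          exact s.seq_mem (by omega) (by omega) (by omega)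
      obtain ⟨w, hw, hwe⟩ := hle z.2
      exact Subtype.ext hwe ▸ hw
  have hP'two : IsPGroup 2 (P.subgroupOf H) := hP.of_equiv (Subgroup.subgroupOfEquivOfLe hPH).symm
  have hP'c : Nat.card (P.subgroupOf H) = 2 ^ m :=
    (Nat.card_congr (Subgroup.subgroupOfEquivOfLe hPH).toEquiv).trans hm
  have hidx : Odd (P.subgroupOf H).index := Nat.odd_iff.2 (Nat.two_dvd_ne_zero.1 hPsyl)
  have hQc : Nat.card (pCore 2 H) = 2 ^ (m - 1) := by
    rw [← s.card_win 0 (show m - 1 ≤ m by omega), h.win_zero_eq s,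
      Subgroup.card_map_of_injective H.subtype_injective]
  have hPdec : ∀ z ∈ P.subgroupOf H, z ∈ pCore 2 H ∨ z * b ∈ pCore 2 H := by
    intro z hz
    have hzP : (z : G) ∈ win P (y * c) m 0 (m - 1 + 1) := by
      rw [show m - 1 + 1 = m by omega, s.win_top]
      exact Subgroup.mem_subgroupOf.1 hz
    rcases s.cases_right (by omega) hzP with h1 | h1
    · exact Or.inl ((hmemQ z).2 h1)
    · refine Or.inr ((hmemQ _).2 ?_)
      rw [zero_add, show ((m - 1 : ℕ) : ℤ) = (m : ℤ) - 1 by omega] at h1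
      push_cast
      rwa [hb]
  refine ⟨?_, ?_⟩
  · rw [hm]
    rcases h.cases s hm with ⟨rfl, -⟩ | ⟨rfl, -⟩ | ⟨rfl, -⟩ <;> simp
  rcases h.cases s hm with ⟨rfl, hc⟩ | ⟨rfl, hc, hw⟩ | ⟨rfl, hc, hw⟩
  · obtain ⟨d, hd⟩ := (hdata 2 (by omega) hc).frame
    exact Or.inl (hd.klein hQc (P := P.subgroupOf H) (by rw [hP'c]; rfl) hP'two)
  · obtain ⟨d, hd⟩ := (hdata 2 (by omega) hc).frame
    obtain ⟨u, hu⟩ : ∃ u : H, (u : G) = seq (y * c) e 3 0 :=
      ⟨⟨_, hxH 0 (by omega) (by omega)⟩, rfl⟩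
    obtain ⟨v, hv⟩ : ∃ v : H, (v : G) = seq (y * c) e 3 1 :=
      ⟨⟨_, hxH 1 (by omega) (by omega)⟩, rfl⟩
    have hw' : cm (y * c) e 3 (-1) 1 = seq (y * c) e 3 0 := by
      have := s.conj_cm (-1) 0 2
      rw [hw, conj_seq] at this
      norm_num at this
      exact this.symm
    have hu1 : u ≠ 1 := fun e1 => s.seq_ne 0 (hu ▸ congrArg Subtype.val e1)
    have hv1 : v ≠ 1 := fun e1 => s.seq_ne 1 (hv ▸ congrArg Subtype.val e1)
    have hnat : Frame.Natural (pCore 2 H) (⊥ : Subgroup H) a b u v := by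
      refine ⟨?_, ?_, bot_le, ?_, ?_, ?_, ?_, ?_, ?_, ?_, ?_, ?_⟩
      · rw [hmemQ, hu]; exact s.seq_mem (by omega) le_rfl (by omega)
      · rw [hmemQ, hv]; exact s.seq_mem (by omega) (by omega) (by omega)
      · intro f hf z; rw [Subgroup.mem_bot] at hf; rw [hf, mul_one, one_mul]
      · simpa using hu1
      · simpa using hv1
      · intro hf
        have h1 : seq (y * c) e 3 0 * seq (y * c) e 3 1 = 1 := by
          rw [← hu, ← hv]; exact congrArg Subtype.val (Subgroup.mem_bot.1 hf)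
        refine s.seq_not_mem_left (show 1 < 3 by omega) 0 ?_
        rw [eq_inv_of_mul_eq_one_left h1]
        exact inv_mem (s.seq_mem (by omega) (by omega) (by omega))
      · intro q hq
        refine ⟨1, one_mem _, ?_⟩
        have h0 : ∀ z ∈ win P (y * c) 3 1 1, z = 1 ∨ z = seq (y * c) e 3 1 := fun z hz => by
          rcases s.cases_left (l := 0) (by omega) hz with h1 | h1
          · rw [s.win_zero] at h1; exact Or.inl h1
          · rw [s.win_zero, Subgroup.mem_bot] at h1
            exact Or.inr ((eq_inv_of_mul_eq_one_right h1).trans (s.seq_inv 1))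
        have hq' : (q : G) ∈ win P (y * c) 3 0 (1 + 1) := (hmemQ q).1 hq
        rcases s.cases_left (l := 1) (by omega) hq' with h1 | h1 <;> rw [zero_add] at h1 <;>
          rcases h0 _ h1 with h2 | h2
        · exact Or.inl (Subtype.ext h2)
        · exact Or.inr (Or.inr (Or.inl (Subtype.ext (by push_cast; rw [hv, mul_one, h2]))))
        · refine Or.inr (Or.inl (Subtype.ext ?_))
          push_cast
          rw [hu, mul_one, ← mul_one (seq (y * c) e 3 0), ← h2, ← mul_assoc, s.seq_mul_self, one_mul]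
        · refine Or.inr (Or.inr (Or.inr (Subtype.ext ?_)))
          push_cast
          rw [hu, hv, mul_one, ← h2, ← mul_assoc, s.seq_mul_self, one_mul]
      · apply Subtype.ext
        push_cast
        rw [ha, hu, (hc (-1) 0 (by omega) (by omega)).eq, mul_assoc, s.seq_mul_self, mul_one]
      · apply Subtype.ext
        push_cast
        rw [ha, hu, hv, ← hw', cm, mul_assoc _ (seq (y * c) e 3 1) (seq (y * c) e 3 1),
          s.seq_mul_self, mul_one]
      · apply Subtype.ext
        push_cast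
        rw [hb, hu, hv, show ((3 : ℕ) : ℤ) - 1 = 2 by norm_num, ← hw, cm]
        rw [← mul_assoc, ← mul_assoc, ← mul_assoc, s.seq_mul_self, one_mul]
      · apply Subtype.ext
        push_cast
        rw [hb, hv, show ((3 : ℕ) : ℤ) - 1 = 2 by norm_num, ← (hc 1 2 (by omega) (by omega)).eq,
          mul_assoc, s.seq_mul_self, mul_one]
    refine Or.inr (Or.inl ((hd.sym4 hnat hPdec hidx ?_).1 Subgroup.card_bot))
    rw [hP'c, Subgroup.card_bot]; rfl
  · obtain ⟨d, hd⟩ := (hdata 3 (by omega) hc).frame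
    obtain ⟨x, hx⟩ : ∃ x : ℤ → G, ∀ i, x i = seq (y * c) e 4 i := ⟨_, fun _ => rfl⟩
    have hb3 : (b : G) = x 3 := by rw [hb, hx]; norm_num
    have ha' : (a : G) = x (-1) := by rw [ha, hx]
    have xx : ∀ i, x i * x i = 1 := fun i => by rw [hx]; exact s.seq_mul_self i
    have hcx : ∀ i j : ℤ, i ≤ j → j < i + 3 → x i * x j = x j * x i := fun i j h1 h2 => by
      rw [hx, hx]; exact hc i j h1 (by simpa using h2)
    have hfix : ∀ i j : ℤ, i ≤ j → j < i + 3 → x i * x j * x i = x j := fun i j h1 h2 => by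
      rw [hcx i j h1 h2, mul_assoc, xx, mul_one]
    have hfix' : ∀ i j : ℤ, j ≤ i → i < j + 3 → x i * x j * x i = x j := fun i j h1 h2 => by
      rw [← hcx j i h1 h2, mul_assoc, xx, mul_one]
    have hconj : ∀ i : ℤ, cm (y * c) e 4 (-1) 2 = (y * c) ^ (-1 : ℤ) * cm (y * c) e 4 0 3 *
        ((y * c) ^ (-1 : ℤ))⁻¹ := fun _ => by rw [s.conj_cm]; norm_num
    have hA : x (-1) * x 2 * x (-1) = cm (y * c) e 4 (-1) 2 * x 2 := by
      rw [cm, ← hx, ← hx, mul_assoc _ (x 2) (x 2), xx, mul_one]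
    have hB : x 3 * x 0 * x 3 = x 0 * cm (y * c) e 4 0 3 := by
      rw [cm, ← hx, ← hx, ← mul_assoc, ← mul_assoc, ← mul_assoc, xx, one_mul]
    have hxH' : ∀ i : ℤ, -1 ≤ i → i < 4 → x i ∈ H := fun i h1 h2 => by
      rw [hx]; exact hxH i h1 (by simpa using h2)
    have hTfix : x (-1) * x 3 * x 1 * (x (-1) * x 3)⁻¹ = x 1 := by
      rw [mul_inv_rev, show (x 3)⁻¹ = x 3 from inv_eq_of_mul_eq_one_right (xx 3),
        show (x (-1))⁻¹ = x (-1) from inv_eq_of_mul_eq_one_right (xx (-1))]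
      calc x (-1) * x 3 * x 1 * (x 3 * x (-1)) = x (-1) * (x 3 * x 1 * x 3) * x (-1) := by group
        _ = x 1 := by rw [hfix' 3 1 (by omega) (by omega), hfix (-1) 1 (by omega) (by omega)]
    have hT : ∀ i : ℤ, 0 ≤ i → i < 3 → ∀ r, r = x 1 * x i →
        x (-1) * x 3 * x i * (x (-1) * x 3)⁻¹ = r → False := by
      intro i h1 h2 r hr hTi
      obtain ⟨q, hq⟩ : ∃ q : H, (q : G) = x i := ⟨⟨_, hxH' i (by omega) (by omega)⟩, rfl⟩
      obtain ⟨q1, hq1⟩ : ∃ q1 : H, (q1 : G) = x 1 := ⟨⟨_, hxH' 1 (by omega) (by omega)⟩, rfl⟩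
      have hqQ : q ∈ pCore 2 H := by rw [hmemQ, hq, hx]; exact s.seq_mem (by omega) h1 (by simpa using h2)
      have hq1Q : q1 ∈ pCore 2 H := by
        rw [hmemQ, hq1, hx]; exact s.seq_mem (by omega) (by omega) (by omega)
      have e1 : d * q * d⁻¹ = q1 * q := by
        rw [hd.dQ q hqQ]
        apply Subtype.ext
        push_cast
        rw [ha', hb3, hq, hq1, hTi, hr]
      have e2 : d * q1 * d⁻¹ = q1 := by
        rw [hd.dQ q1 hq1Q]
        apply Subtype.ext
        push_cast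
        rw [ha', hb3, hq1, hTfix]
      have key : ∀ k : ℕ, d ^ k * q * (d ^ k)⁻¹ = q1 ^ k * q := by
        intro k
        induction k with
        | zero => simp
        | succ k ih =>
          calc d ^ (k + 1) * q * (d ^ (k + 1))⁻¹ = d * (d ^ k * q * (d ^ k)⁻¹) * d⁻¹ := by
                rw [pow_succ']; group
            _ = (d * q1 * d⁻¹) ^ k * (d * q * d⁻¹) := by rw [ih, conj_pow]; group
            _ = q1 ^ (k + 1) * q := by rw [e2, e1, pow_succ, mul_assoc]
      have h3 := key n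
      rw [hd.dn, one_mul, inv_one, mul_one, eq_comm, mul_eq_right] at h3
      refine s.seq_ne 1 ?_
      rw [← hx, ← hq1, eq_one_of_odd (hd.elem q1 hq1Q) hodd h3]
      rfl
    have hw' : cm (y * c) e 4 0 3 = x 1 * x 2 ∧ cm (y * c) e 4 (-1) 2 = x 0 * x 1 := by
      rcases hw with hw | hw | hw
      · exfalso
        refine hT 0 le_rfl (by omega) _ rfl ?_
        rw [mul_inv_rev, show (x 3)⁻¹ = x 3 from inv_eq_of_mul_eq_one_right (xx 3),
          show (x (-1))⁻¹ = x (-1) from inv_eq_of_mul_eq_one_right (xx (-1))]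
        calc x (-1) * x 3 * x 0 * (x 3 * x (-1)) = x (-1) * (x 3 * x 0 * x 3) * x (-1) := by group
          _ = x (-1) * (x 0 * x 1) * x (-1) := by rw [hB, hw, hx 1]
          _ = (x (-1) * x 0 * x (-1)) * (x (-1) * x 1 * x (-1)) := by
              rw [show x (-1) * x 0 * x (-1) * (x (-1) * x 1 * x (-1)) =
                x (-1) * x 0 * (x (-1) * x (-1)) * (x 1 * x (-1)) by group, xx]; group
          _ = x 1 * x 0 := by
              rw [hfix (-1) 0 (by omega) (by omega), hfix (-1) 1 (by omega) (by omega),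
                hcx 0 1 (by omega) (by omega)]
      · exfalso
        refine hT 2 (by omega) (by omega) _ rfl ?_
        rw [mul_inv_rev, show (x 3)⁻¹ = x 3 from inv_eq_of_mul_eq_one_right (xx 3),
          show (x (-1))⁻¹ = x (-1) from inv_eq_of_mul_eq_one_right (xx (-1))]
        calc x (-1) * x 3 * x 2 * (x 3 * x (-1)) = x (-1) * (x 3 * x 2 * x 3) * x (-1) := by group
          _ = x (-1) * x 2 * x (-1) := by rw [hfix' 3 2 (by omega) (by omega)]
          _ = x 1 * x 2 := by
              rw [hA, hconj 0, hw, conj_seq, hx 1]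
              norm_num
      · refine ⟨by rw [hw, hx, hx], ?_⟩
        rw [hconj 0, hw, conj_mul.symm, conj_seq, conj_seq, hx, hx]
        norm_num
    obtain ⟨hw1, hw2⟩ := hw'
    obtain ⟨u, hu⟩ : ∃ u : H, (u : G) = x 0 * x 1 :=
      ⟨⟨_, mul_mem (hxH' 0 (by omega) (by omega)) (hxH' 1 (by omega) (by omega))⟩, rfl⟩
    obtain ⟨v, hv⟩ : ∃ v : H, (v : G) = x 1 * x 2 :=
      ⟨⟨_, mul_mem (hxH' 1 (by omega) (by omega)) (hxH' 2 (by omega) (by omega))⟩, rfl⟩
    obtain ⟨f, hf⟩ : ∃ f : H, (f : G) = x 1 := ⟨⟨_, hxH' 1 (by omega) (by omega)⟩, rfl⟩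
    have hff : f * f = 1 := Subtype.ext (by push_cast; rw [hf, xx])
    have hF : ∀ z ∈ Subgroup.zpowers f, (z : G) = 1 ∨ (z : G) = x 1 := by
      rintro z ⟨k, rfl⟩
      rcases Int.even_or_odd' k with ⟨j, rfl | rfl⟩
      · left
        show ((f ^ (2 * j) : H) : G) = 1
        rw [zpow_mul, zpow_two, hff, one_zpow]
        rfl
      · right
        show ((f ^ (2 * j + 1) : H) : G) = x 1
        rw [zpow_add, zpow_mul, zpow_two, hff, one_zpow, one_mul, zpow_one, hf]
    have hmem : ∀ i : ℤ, ∀ a' : ℤ, ∀ l : ℕ, l ≤ 4 → a' ≤ i → i < a' + l →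
        x i ∈ win P (y * c) 4 a' l := fun i a' l h0 h1 h2 => by
      rw [hx]; exact s.seq_mem h0 h1 h2
    have hnl : ∀ i : ℤ, ∀ l : ℕ, l < 4 → x i ∉ win P (y * c) 4 (i + 1) l := fun i l h0 => by
      rw [hx]; exact s.seq_not_mem_left h0 i
    have hnat : Frame.Natural (pCore 2 H) (Subgroup.zpowers f) a b u v := by
      have hfQ : f ∈ pCore 2 H := (hmemQ f).2 (hf ▸ hmem 1 0 3 (by omega) (by omega) (by omega))
      refine ⟨?_, ?_, Subgroup.zpowers_le.2 hfQ, ?_, ?_, ?_, ?_, ?_, ?_, ?_, ?_, ?_⟩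
      · rw [hmemQ, hu]
        exact mul_mem (hmem 0 0 3 (by omega) le_rfl (by omega))
          (hmem 1 0 3 (by omega) (by omega) (by omega))
      · rw [hmemQ, hv]
        exact mul_mem (hmem 1 0 3 (by omega) (by omega) (by omega))
          (hmem 2 0 3 (by omega) (by omega) (by omega))
      · intro f' hf' z
        have hle : H ≤ Subgroup.centralizer {x 1} := h.le_of_gens s fun i h1 h2 => by
          rw [Subgroup.mem_centralizer_singleton_iff, ← hx]
          rcases le_or_gt i 1 with h3 | h3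
          · exact hcx i 1 h3 (by omega)
          · exact (hcx 1 i h3.le (by omega)).symm
        have hz := Subgroup.mem_centralizer_singleton_iff.1 (hle z.2)
        apply Subtype.ext
        push_cast
        rcases hF f' hf' with h1 | h1 <;> rw [h1]
        · simp
        · exact hz
      · intro h1
        refine hnl 0 1 (by omega) ?_
        rcases hF u h1 with h2 | h2 <;> rw [hu] at h2
        · rw [eq_inv_of_mul_eq_one_left h2]
          exact inv_mem (hmem 1 1 1 (by omega) le_rfl (by omega))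
        · rw [mul_eq_right] at h2
          rw [h2]; exact one_mem _
      · intro h1
        rcases hF v h1 with h2 | h2 <;> rw [hv] at h2
        · refine hnl 1 1 (by omega) ?_
          rw [eq_inv_of_mul_eq_one_left h2]
          exact inv_mem (hmem 2 2 1 (by omega) le_rfl (by omega))
        · rw [mul_eq_left] at h2
          exact absurd h2 (hx 2 ▸ s.seq_ne 2)
      · intro h1
        refine hnl 0 2 (by omega) ?_
        have e : ((u * v : H) : G) = x 0 * x 2 := by
          push_cast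
          rw [hu, hv, mul_assoc, ← mul_assoc (x 1) (x 1), xx, one_mul]
        rcases hF _ h1 with h2 | h2 <;> rw [e] at h2
        · rw [eq_inv_of_mul_eq_one_left h2]
          exact inv_mem (hmem 2 1 2 (by omega) (by omega) (by omega))
        · rw [eq_mul_inv_of_mul_eq h2]
          exact mul_mem (hmem 1 1 2 (by omega) le_rfl (by omega))
            (inv_mem (hmem 2 1 2 (by omega) (by omega) (by omega)))
      · intro q hq
        have h2' : ∀ z ∈ win P (y * c) 4 2 1, z = 1 ∨ z = x 2 := fun z hz => by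
          rw [hx]
          rcases s.cases_left (l := 0) (by omega) hz with h1 | h1
          · rw [s.win_zero] at h1; exact Or.inl h1
          · rw [s.win_zero, Subgroup.mem_bot] at h1
            exact Or.inr ((eq_inv_of_mul_eq_one_right h1).trans (s.seq_inv 2))
        have h1' : ∀ z ∈ win P (y * c) 4 1 (1 + 1),
            z = 1 ∨ z = x 1 ∨ z = x 2 ∨ z = x 1 * x 2 := fun z hz => by
          rcases s.cases_left (l := 1) (by omega) hz with h1 | h1 <;> norm_num at h1 <;>
            rcases h2' _ h1 with h2 | h2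
          · exact Or.inl h2
          · exact Or.inr (Or.inr (Or.inl h2))
          · rw [← hx] at h2
            exact Or.inr (Or.inl ((eq_inv_of_mul_eq_one_right h2).trans (inv_eq_of_mul_eq_one_right (xx 1))))
          · rw [← hx] at h2
            exact Or.inr (Or.inr (Or.inr (by rw [← h2, ← mul_assoc, xx, one_mul])))
        have c01 := hcx 0 1 (by omega) (by omega)
        have c12 := hcx 1 2 (by omega) (by omega)
        have c02 := hcx 0 2 (by omega) (by omega)
        have hq' : (q : G) ∈ win P (y * c) 4 0 (2 + 1) := (hmemQ q).1 hq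
        have hf1 : f ∈ Subgroup.zpowers f := Subgroup.mem_zpowers f
        rcases s.cases_left (l := 2) (by omega) hq' with h1 | h1 <;> rw [zero_add] at h1 <;>
          rcases h1' _ h1 with h3 | h3 | h3 | h3
        · exact ⟨1, one_mem _, Or.inl (Subtype.ext h3)⟩
        · exact ⟨f, hf1, Or.inl (Subtype.ext (h3.trans hf.symm))⟩
        · refine ⟨f, hf1, Or.inr (Or.inr (Or.inl (Subtype.ext ?_)))⟩
          push_cast
          rw [hv, hf, h3, c12, mul_assoc, xx, mul_one]
        · refine ⟨1, one_mem _, Or.inr (Or.inr (Or.inl (Subtype.ext ?_)))⟩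
          push_cast
          rw [hv, h3, mul_one]
        all_goals rw [← hx, ← eq_inv_mul_iff_mul_eq] at h3
        · refine ⟨f, hf1, Or.inr (Or.inl (Subtype.ext ?_))⟩
          push_cast
          rw [hu, hf, mul_assoc, xx, mul_one]
          exact h3.trans (by rw [mul_one, inv_eq_of_mul_eq_one_right (xx 0)])
        · refine ⟨1, one_mem _, Or.inr (Or.inl (Subtype.ext ?_))⟩
          push_cast
          rw [hu, mul_one]
          exact h3.trans (by rw [inv_eq_of_mul_eq_one_right (xx 0)])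
        · refine ⟨1, one_mem _, Or.inr (Or.inr (Or.inr (Subtype.ext ?_)))⟩
          push_cast
          rw [hu, hv, mul_one, mul_assoc, ← mul_assoc (x 1) (x 1), xx, one_mul]
          exact h3.trans (by rw [inv_eq_of_mul_eq_one_right (xx 0)])
        · refine ⟨f, hf1, Or.inr (Or.inr (Or.inr (Subtype.ext ?_)))⟩
          push_cast
          rw [hu, hv, hf, mul_assoc (x 0), ← mul_assoc (x 1) (x 1), xx, one_mul, mul_assoc (x 0),
            ← c12]
          exact h3.trans (by rw [inv_eq_of_mul_eq_one_right (xx 0)])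
      · apply Subtype.ext
        push_cast
        rw [ha', hu]
        calc x (-1) * (x 0 * x 1) * x (-1)
            = (x (-1) * x 0 * x (-1)) * (x (-1) * x 1 * x (-1)) := by
              rw [show x (-1) * x 0 * x (-1) * (x (-1) * x 1 * x (-1)) =
                x (-1) * x 0 * (x (-1) * x (-1)) * (x 1 * x (-1)) by group, xx]; group
          _ = x 0 * x 1 := by
              rw [hfix (-1) 0 (by omega) (by omega), hfix (-1) 1 (by omega) (by omega)]
      · apply Subtype.ext
        push_cast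
        rw [ha', hu, hv]
        calc x (-1) * (x 1 * x 2) * x (-1)
            = (x (-1) * x 1 * x (-1)) * (x (-1) * x 2 * x (-1)) := by
              rw [show x (-1) * x 1 * x (-1) * (x (-1) * x 2 * x (-1)) =
                x (-1) * x 1 * (x (-1) * x (-1)) * (x 2 * x (-1)) by group, xx]; group
          _ = x 0 * x 1 * (x 1 * x 2) := by
              rw [hfix (-1) 1 (by omega) (by omega), hA, hw2, ← mul_assoc (x 1),
                ← mul_assoc (x 1), ← hcx 0 1 (by omega) (by omega)]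
              simp only [mul_assoc]
      · apply Subtype.ext
        push_cast
        rw [hb3, hu, hv]
        calc x 3 * (x 0 * x 1) * x 3 = (x 3 * x 0 * x 3) * (x 3 * x 1 * x 3) := by
              rw [show x 3 * x 0 * x 3 * (x 3 * x 1 * x 3) =
                x 3 * x 0 * (x 3 * x 3) * (x 1 * x 3) by group, xx]; group
          _ = x 0 * x 1 * (x 1 * x 2) := by
              rw [hfix' 3 1 (by omega) (by omega), hB, hw1]
              simp only [mul_assoc]
              rw [← hcx 1 2 (by omega) (by omega)]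
      · apply Subtype.ext
        push_cast
        rw [hb3, hv]
        calc x 3 * (x 1 * x 2) * x 3 = (x 3 * x 1 * x 3) * (x 3 * x 2 * x 3) := by
              rw [show x 3 * x 1 * x 3 * (x 3 * x 2 * x 3) =
                x 3 * x 1 * (x 3 * x 3) * (x 2 * x 3) by group, xx]; group
          _ = x 1 * x 2 := by
              rw [hfix' 3 1 (by omega) (by omega), hfix' 3 2 (by omega) (by omega)]
    have hfc : Nat.card (Subgroup.zpowers f) = 2 := by
      rw [Nat.card_zpowers]
      refine orderOf_eq_prime (by rw [pow_two, hff]) fun e1 => s.seq_ne 1 ?_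
      rw [← hx, ← hf, e1]; rfl
    refine Or.inr (Or.inr ((hd.sym4 hnat hPdec hidx ?_).2 hfc))
    rw [hP'c, hfc]; rfl

end CfsgLib.DihedralEdge
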