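import Mathlib.GroupTheory.Sylow
import Mathlib.GroupTheory.GroupAction.ConjAct
import Mathlib.GroupTheory.Index
import Mathlib.GroupTheory.IndexNormal

/-!
# Shift sequences of involutions (Sims)

A finite 2-group `P` with an element `y` normalizing it and an element `c` of an overgroup
`H = ⟨P, cPc⁻¹⟩` with `P ∩ cPc⁻¹ = Q` of index 2, such that no non-trivial subgroup of `P` is
normal in `H` and `y`-invariant. With `g = yc` the subgroups `P ∩ gPg⁻¹ ∩ ⋯ ∩ gᵏPg⁻ᵏ` drop by a
factor 2 at each step, and `P` is generated by a window of conjugates `x i = gⁱ e g⁻ⁱ` of one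
involution, any window of length `l` generating a subgroup `I a l` of order `2 ^ l`.
-/

set_option autoImplicit false
set_option maxHeartbeats 200000
set_option linter.unusedSectionVars false

namespace CfsgLib.DihedralEdge

open scoped Pointwise

variable {G : Type*} [Group G]

theorem mem_conjS {g z : G} {A : Subgroup G} :
    z ∈ MulAut.conj g • A ↔ g⁻¹ * z * g ∈ A := by
  rw [Subgroup.mem_pointwise_smul_iff_inv_smul_mem, MulAut.smul_def, MulAut.conj_inv_apply]

theorem conj_mem_conjS {g z : G} {A : Subgroup G} (hz : z ∈ A) :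
    g * z * g⁻¹ ∈ MulAut.conj g • A := by
  rw [mem_conjS]
  simpa [mul_assoc] using hz

theorem conjS_mul (g h : G) (A : Subgroup G) :
    MulAut.conj (g * h) • A = MulAut.conj g • MulAut.conj h • A := by
  rw [map_mul, mul_smul]

theorem conjS_one (A : Subgroup G) : MulAut.conj (1 : G) • A = A := by
  rw [map_one, one_smul]

theorem card_conjS (g : G) (A : Subgroup G) :
    Nat.card ↥(MulAut.conj g • A) = Nat.card ↥A :=
  (Nat.card_congr (Subgroup.equivSMul (MulAut.conj g) A).toEquiv).symm

theorem mem_normalizer_iff_conjS {g : G} {A : Subgroup G} :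
    g ∈ Subgroup.normalizer (A : Set G) ↔ MulAut.conj g • A = A := by
  rw [Subgroup.mem_normalizer_iff]
  constructor
  · intro h
    ext z
    rw [mem_conjS, h, show g * (g⁻¹ * z * g) * g⁻¹ = z by group]
  · intro h z
    conv_rhs => rw [← h]
    rw [mem_conjS, show g⁻¹ * (g * z * g⁻¹) * g = z by group]

theorem conjS_eq_of_centralize {g : G} {A : Subgroup G} (h : ∀ z ∈ A, Commute g z) :
    MulAut.conj g • A = A := by
  ext z
  rw [mem_conjS]
  constructor
  · intro hz
    have := h _ hz
    rw [commute_iff_eq] at this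
    have e : z = g⁻¹ * z * g := by
      calc z = g * (g⁻¹ * z * g) * g⁻¹ := by group
        _ = g⁻¹ * z * g * g * g⁻¹ := by rw [this]
        _ = _ := by group
    rw [e]; exact hz
  · intro hz
    rw [mul_assoc, ← (h z hz).eq, inv_mul_cancel_left]
    exact hz

theorem card_mul_relIndex {A B : Subgroup G} (h : A ≤ B) :
    Nat.card A * A.relIndex B = Nat.card B := by
  simpa only [Subgroup.relIndex_bot_left] using Subgroup.relIndex_mul_relIndex ⊥ A B bot_le h

variable [Finite G]

theorem card_le_two_mul {A B T : Subgroup G} (hA : A ≤ T) (hB : B ≤ T)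
    (hBT : Nat.card T ≤ 2 * Nat.card B) : Nat.card A ≤ 2 * Nat.card ↥(A ⊓ B) := by
  have h1 := card_mul_relIndex (A := A ⊓ B) (B := A) inf_le_left
  have h2 := card_mul_relIndex hB
  have h3 : (A ⊓ B).relIndex A = B.relIndex A := by
    rw [inf_comm, Subgroup.inf_relIndex_right]
  have h4 : B.relIndex A ≤ B.relIndex T :=
    Subgroup.relIndex_le_of_le_right hA Subgroup.index_ne_zero_of_finite
  have h5 : B.relIndex T ≤ 2 := by
    by_contra h5
    have : Nat.card B * 3 ≤ Nat.card B * B.relIndex T := Nat.mul_le_mul_left _ (by omega)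
    have := Nat.card_pos (α := B)
    omega
  rw [← h1, h3, mul_comm]
  exact Nat.mul_le_mul_right _ (h4.trans h5)

/-- The data: `Q = P ∩ cPc⁻¹` of index 2 in `P`, `y` normalizes `P` but not `Q`. -/
structure Setting (H P Q : Subgroup G) (c y : G) : Prop where
  two : IsPGroup 2 P
  PH : P ≤ H
  cH : c ∈ H
  gen : H ≤ P ⊔ MulAut.conj c • P
  inter : P ⊓ MulAut.conj c • P = Q
  cQ : MulAut.conj c • Q = Q
  card_P : Nat.card P = 2 * Nat.card Q
  yP : MulAut.conj y • P = P
  yQ : MulAut.conj y • Q ≠ Q
  y2 : y ^ 2 ∈ P ⊔ Subgroup.centralizer (P : Set G)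
  faith : ∀ N : Subgroup G, N ≤ P → H ≤ Subgroup.normalizer (N : Set G) →
    MulAut.conj y • N = N → N = ⊥

/-- `P ∩ gPg⁻¹ ∩ ⋯ ∩ gᵏPg⁻ᵏ`. -/
def chain (P : Subgroup G) (g : G) : ℕ → Subgroup G
  | 0 => P
  | k + 1 => chain P g k ⊓ MulAut.conj g • chain P g k

theorem chain_succ (P : Subgroup G) (g : G) (k : ℕ) :
    chain P g (k + 1) = chain P g k ⊓ MulAut.conj g • chain P g k := rfl

theorem chain_anti (P : Subgroup G) (g : G) : Antitone (chain P g) :=
  antitone_nat_of_succ_le fun _ => inf_le_left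

theorem conjS_inv_chain_le (P : Subgroup G) (g : G) (k : ℕ) :
    MulAut.conj g⁻¹ • chain P g (k + 1) ≤ chain P g k := by
  refine (Subgroup.pointwise_smul_le_pointwise_smul_iff.2 (inf_le_right :
    chain P g (k + 1) ≤ MulAut.conj g • chain P g k)).trans_eq ?_
  rw [← conjS_mul, inv_mul_cancel, conjS_one]

namespace Setting

variable {H P Q : Subgroup G} {c y : G}

theorem inter_g (h : Setting H P Q c y) : P ⊓ MulAut.conj (y * c) • P = MulAut.conj y • Q := by
  conv_rhs => rw [← h.inter, Subgroup.smul_inf, h.yP]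
  rw [conjS_mul]

theorem g_Q (h : Setting H P Q c y) : MulAut.conj (y * c) • Q = MulAut.conj y • Q := by
  rw [conjS_mul, h.cQ]

theorem isPGroup_chain (h : Setting H P Q c y) (k : ℕ) : IsPGroup 2 (chain P (y * c) k) :=
  h.two.to_le (chain_anti _ _ (Nat.zero_le k))

theorem card_chain_le (h : Setting H P Q c y) : ∀ k,
    Nat.card (chain P (y * c) k) ≤ 2 * Nat.card (chain P (y * c) (k + 1)) := by
  intro k
  induction k with
  | zero =>
    show Nat.card P ≤ 2 * Nat.card ↥(P ⊓ MulAut.conj (y * c) • P)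
    rw [h.inter_g, card_conjS, h.card_P]
  | succ k ih =>
    refine card_le_two_mul (T := MulAut.conj (y * c) • chain P (y * c) k) inf_le_right
      (Subgroup.pointwise_smul_le_pointwise_smul_iff.2 inf_le_left) ?_
    rw [card_conjS, card_conjS]
    exact ih

theorem card_chain_of_ne (h : Setting H P Q c y) {k : ℕ}
    (hne : chain P (y * c) (k + 1) ≠ chain P (y * c) k) :
    Nat.card (chain P (y * c) k) = 2 * Nat.card (chain P (y * c) (k + 1)) := by
  have hle : chain P (y * c) (k + 1) ≤ chain P (y * c) k := inf_le_left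
  obtain ⟨r, hr⟩ : Nat.card (chain P (y * c) (k + 1)) ∣ Nat.card (chain P (y * c) k) :=
    Subgroup.card_dvd_of_le hle
  have h1 := h.card_chain_le k
  rw [hr, mul_comm 2] at h1
  have h2 := Nat.le_of_mul_le_mul_left h1 Nat.card_pos
  interval_cases r
  · exact absurd hr (by have := Nat.card_pos (α := chain P (y * c) k); omega)
  · exact absurd (Subgroup.eq_of_le_of_card_ge hle (by omega)) hne
  · omega

theorem normalizer_of_card (h : Setting H P Q c y) {k : ℕ}
    (hne : chain P (y * c) (k + 1) ≠ chain P (y * c) k) :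
    chain P (y * c) k ≤ Subgroup.normalizer (chain P (y * c) (k + 1) : Set G) := by
  have hle : chain P (y * c) (k + 1) ≤ chain P (y * c) k := inf_le_left
  refine (Subgroup.normal_subgroupOf_iff_le_normalizer hle).1
    (Subgroup.normal_of_index_eq_two ?_)
  show (chain P (y * c) (k + 1)).relIndex (chain P (y * c) k) = 2
  have h1 := card_mul_relIndex hle
  rw [h.card_chain_of_ne hne, mul_comm 2] at h1
  exact Nat.eq_of_mul_eq_mul_left Nat.card_pos h1

theorem sup_shift (h : Setting H P Q c y) {i : ℕ}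
    (h0 : chain P (y * c) (i + 1) ≠ chain P (y * c) i)
    (h1 : chain P (y * c) (i + 2) ≠ chain P (y * c) (i + 1)) :
    MulAut.conj (y * c)⁻¹ • chain P (y * c) (i + 1) ⊔ chain P (y * c) (i + 1) =
      chain P (y * c) i := by
  have hle1 : MulAut.conj (y * c)⁻¹ • chain P (y * c) (i + 1) ≤ chain P (y * c) i :=
    conjS_inv_chain_le P (y * c) i
  have hle2 : chain P (y * c) (i + 1) ≤ chain P (y * c) i := inf_le_left
  refine Subgroup.eq_of_le_of_card_ge (sup_le hle1 hle2) ?_
  have hlt : chain P (y * c) (i + 1) <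
      MulAut.conj (y * c)⁻¹ • chain P (y * c) (i + 1) ⊔ chain P (y * c) (i + 1) := by
    refine lt_of_le_of_ne le_sup_right fun e => h1 ?_
    have e2 : MulAut.conj (y * c)⁻¹ • chain P (y * c) (i + 1) = chain P (y * c) (i + 1) :=
      Subgroup.eq_of_le_of_card_ge (le_sup_left.trans e.ge) (by rw [card_conjS])
    have e3 : MulAut.conj (y * c) • chain P (y * c) (i + 1) = chain P (y * c) (i + 1) := by
      conv_lhs => rw [← e2]
      rw [← conjS_mul, mul_inv_cancel, conjS_one]
    rw [chain_succ, e3, inf_idem]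
  obtain ⟨r, hr⟩ := Subgroup.card_dvd_of_le hlt.le
  rw [h.card_chain_of_ne h0]
  rcases r with - | - | r
  · exact absurd hr (by simpa using Nat.card_pos.ne')
  · exact absurd (Subgroup.eq_of_le_of_card_ge hlt.le (by omega)) hlt.ne
  · rw [hr, mul_comm 2]
    exact Nat.mul_le_mul_left _ (by omega)

theorem eq_bot_of_stable (h : Setting H P Q c y) {k : ℕ}
    (hlt : ∀ i < k, chain P (y * c) (i + 1) ≠ chain P (y * c) i)
    (hk : chain P (y * c) (k + 1) = chain P (y * c) k) : chain P (y * c) k = ⊥ := by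
  set g := y * c with hg
  set N := chain P g k with hN
  have hgN : MulAut.conj g • N = N :=
    (Subgroup.eq_of_le_of_card_ge (inf_eq_left.1 hk) (by rw [card_conjS])).symm
  have hgn : g ∈ Subgroup.normalizer (N : Set G) := mem_normalizer_iff_conjS.2 hgN
  rcases Nat.lt_or_ge k 2 with hk2 | hk2
  · exfalso
    interval_cases k
    · rw [hN] at hk
      have h1 : MulAut.conj y • Q = P := by rw [← h.inter_g]; exact hk
      have h2 := congrArg (fun A : Subgroup G => Nat.card A) h1
      simp only [card_conjS] at h2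
      have := h.card_P
      have := Nat.card_pos (α := Q)
      omega
    · have e : chain P g 1 = MulAut.conj y • Q := h.inter_g
      rw [hN, e, ← h.g_Q, ← hg] at hgN
      exact h.yQ (by rw [← h.g_Q, ← hg]; exact MulAction.injective (MulAut.conj g) hgN)
  have key : ∀ j, j ≤ k → 1 ≤ j → chain P g (k - j) ≤ Subgroup.normalizer (N : Set G) := by
    intro j
    induction j with
    | zero => omega
    | succ j ih =>
      intro hj _
      rcases Nat.eq_zero_or_pos j with rfl | hj0
      · have h1 := h.normalizer_of_card (hlt (k - 1) (by omega))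
        rw [Nat.sub_add_cancel (by omega)] at h1
        exact h1
      · obtain ⟨i, hi⟩ : ∃ i, i = k - (j + 1) := ⟨_, rfl⟩
        rw [← hi, ← h.sup_shift (hlt i (by omega)) (hlt (i + 1) (by omega))]
        have hA := ih (by omega) hj0
        rw [show k - j = i + 1 by omega] at hA
        refine sup_le ?_ hA
        intro z hz
        rw [mem_conjS, inv_inv] at hz
        have h2 := hA hz
        have e : z = g⁻¹ * (g * z * g⁻¹) * g := by group
        rw [e]
        exact mul_mem (mul_mem (inv_mem hgn) h2) hgn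
  have hPn : P ≤ Subgroup.normalizer (N : Set G) := by
    have h1 := key k le_rfl (by omega)
    rw [Nat.sub_self] at h1
    exact h1
  have hNP : N ≤ P := chain_anti P g (Nat.zero_le k)
  have hyc : MulAut.conj c • N = MulAut.conj y⁻¹ • N := by
    conv_rhs => rw [← hgN, hg, ← conjS_mul, inv_mul_cancel_left]
  have hP2 : P ≤ Subgroup.normalizer (MulAut.conj c • N : Subgroup G) := by
    intro z hz
    rw [hyc, mem_normalizer_iff_conjS]
    have h1 : y * z * y⁻¹ ∈ P := by rw [← h.yP]; exact conj_mem_conjS hz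
    calc MulAut.conj z • MulAut.conj y⁻¹ • N
        = MulAut.conj y⁻¹ • MulAut.conj (y * z * y⁻¹) • N := by
          rw [← conjS_mul, ← conjS_mul]; congr 2; group
      _ = _ := by rw [mem_normalizer_iff_conjS.1 (hPn h1)]
  have hcP : MulAut.conj c • P ≤ Subgroup.normalizer (MulAut.conj c • N : Subgroup G) := by
    intro z hz
    rw [mem_conjS] at hz
    rw [mem_normalizer_iff_conjS]
    calc MulAut.conj z • MulAut.conj c • N
        = MulAut.conj c • MulAut.conj (c⁻¹ * z * c) • N := by
          rw [← conjS_mul, ← conjS_mul]; congr 2; group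
      _ = _ := by rw [mem_normalizer_iff_conjS.1 (hPn hz)]
  have hHn := h.gen.trans (sup_le hP2 hcP)
  have hcN : MulAut.conj c • N = N :=
    MulAction.injective (MulAut.conj c) (mem_normalizer_iff_conjS.1 (hHn h.cH))
  rw [hcN] at hHn
  refine h.faith N hNP hHn ?_
  have e := hgN
  rwa [hg, conjS_mul, hcN] at e

theorem chain_ne (h : Setting H P Q c y) : ∀ k, chain P (y * c) k ≠ ⊥ →
    chain P (y * c) (k + 1) ≠ chain P (y * c) k := by
  intro k
  induction k using Nat.strong_induction_on with
  | _ k ih =>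
    intro hk e
    exact hk (h.eq_bot_of_stable (fun i hi => ih i hi fun e' =>
      hk (eq_bot_iff.2 (e' ▸ chain_anti P (y * c) hi.le))) e)

theorem card_chain (h : Setting H P Q c y) {m : ℕ} (hm : Nat.card P = 2 ^ m) :
    ∀ k ≤ m, Nat.card (chain P (y * c) k) = 2 ^ (m - k) := by
  intro k
  induction k with
  | zero => intro _; exact hm
  | succ k ih =>
    intro hk
    have h1 := ih (by omega)
    have hne : chain P (y * c) k ≠ ⊥ := fun e => by
      rw [e, Subgroup.card_bot] at h1
      exact absurd h1.symm (Nat.one_lt_two_pow (by omega)).ne'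
    have h2 := h.card_chain_of_ne (h.chain_ne k hne)
    rw [h1, show m - k = m - (k + 1) + 1 by omega, pow_succ, mul_comm] at h2
    omega

end Setting

/-- The window subgroup `⟨x a, …, x (a + l - 1)⟩` (for `l ≤ m`). -/
def win (P : Subgroup G) (g : G) (m : ℕ) (a : ℤ) (l : ℕ) : Subgroup G :=
  MulAut.conj (g ^ (a + l - m)) • chain P g (m - l)

/-- The sequence of conjugates of one involution. -/
def seq (g e : G) (m : ℕ) (i : ℤ) : G := g ^ (i + 1 - m) * e * (g ^ (i + 1 - m))⁻¹

theorem conjS_win (P : Subgroup G) (g : G) (m : ℕ) (k a : ℤ) (l : ℕ) :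
    MulAut.conj (g ^ k) • win P g m a l = win P g m (a + k) l := by
  rw [win, win, ← conjS_mul, ← zpow_add]
  congr 3
  ring

theorem conj_seq (g e : G) (m : ℕ) (k i : ℤ) :
    g ^ k * seq g e m i * (g ^ k)⁻¹ = seq g e m (i + k) := by
  rw [seq, seq, show i + k + 1 - (m : ℤ) = k + (i + 1 - m) by ring, zpow_add, mul_inv_rev]
  group

/-- Everything one needs about the windows: `e` generates the last term of the chain. -/
structure Shift (P : Subgroup G) (g e : G) (m : ℕ) : Prop where
  two : IsPGroup 2 P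
  pos : 1 ≤ m
  card_chain : ∀ k ≤ m, Nat.card (chain P g k) = 2 ^ (m - k)
  sup : ∀ i, i + 2 ≤ m →
    MulAut.conj g⁻¹ • chain P g (i + 1) ⊔ chain P g (i + 1) = chain P g i
  e_mem : e ∈ chain P g (m - 1)
  e_ne : e ≠ 1

theorem Setting.exists_shift {H P Q : Subgroup G} {c y : G} (h : Setting H P Q c y) :
    ∃ m e, Nat.card P = 2 ^ m ∧ Shift P (y * c) e m := by
  obtain ⟨m, hm⟩ := IsPGroup.iff_card.1 h.two
  have hm1 : 1 ≤ m := by
    by_contra hc
    rw [show m = 0 by omega, pow_zero] at hm
    have := h.card_P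
    omega
  have hc := h.card_chain hm
  have hlast : chain P (y * c) (m - 1) ≠ ⊥ := fun e => by
    have := hc (m - 1) (by omega)
    rw [e, Subgroup.card_bot, show m - (m - 1) = 1 by omega] at this
    omega
  obtain ⟨⟨e, he⟩, he'⟩ := Subgroup.ne_bot_iff_exists_ne_one.1 hlast
  have he1 : e ≠ 1 := fun e1 => he' (Subtype.ext e1)
  have hne : ∀ i, i < m → chain P (y * c) (i + 1) ≠ chain P (y * c) i := fun i hi =>
    h.chain_ne i fun e => by
      have := hc i hi.le
      rw [e, Subgroup.card_bot] at this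
      exact absurd this (Nat.one_lt_two_pow (by omega)).ne
  exact ⟨m, e, hm, h.two, hm1, hc, fun i hi => h.sup_shift (hne i (by omega))
    (hne (i + 1) (by omega)), he, he1⟩

namespace Shift

variable {P : Subgroup G} {g e : G} {m : ℕ}

theorem card_win (s : Shift P g e m) (a : ℤ) {l : ℕ} (hl : l ≤ m) :
    Nat.card (win P g m a l) = 2 ^ l := by
  rw [win, card_conjS, s.card_chain _ (by omega)]
  congr 1
  omega

theorem isPGroup_win (s : Shift P g e m) (a : ℤ) (l : ℕ) : IsPGroup 2 (win P g m a l) :=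
  (s.two.to_le (chain_anti P g (Nat.zero_le _))).of_equiv
    (Subgroup.equivSMul (MulAut.conj (g ^ (a + l - m))) _)

theorem win_zero (s : Shift P g e m) (a : ℤ) : win P g m a 0 = ⊥ :=
  Subgroup.eq_bot_of_card_eq _ (by rw [s.card_win a (Nat.zero_le m), pow_zero])

theorem win_top (_s : Shift P g e m) : win P g m 0 m = P := by
  rw [win, Nat.sub_self, zero_add, sub_self, zpow_zero, conjS_one]
  rfl

theorem inf_succ (_s : Shift P g e m) (a : ℤ) {l : ℕ} (hl : l + 1 ≤ m) :
    win P g m a (l + 1) ⊓ win P g m (a + 1) (l + 1) = win P g m (a + 1) l := by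
  rw [← conjS_win P g m 1 a, zpow_one, win, win, ← conjS_mul,
    show g * g ^ (a + ((l + 1 : ℕ) : ℤ) - (m : ℤ)) = g ^ (a + ((l + 1 : ℕ) : ℤ) - (m : ℤ)) * g from
      (Commute.zpow_right (Commute.refl g) _).eq,
    conjS_mul _ g, ← Subgroup.smul_inf, show m - l = m - (l + 1) + 1 by omega, chain_succ]
  congr 3
  push_cast
  ring

theorem sup_succ (s : Shift P g e m) (a : ℤ) {l : ℕ} (hl : l + 1 ≤ m) (hl0 : 1 ≤ l) :
    win P g m a l ⊔ win P g m (a + 1) l = win P g m a (l + 1) := by
  have h1 := s.sup (m - (l + 1)) (by omega)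
  rw [show m - (l + 1) + 1 = m - l by omega] at h1
  rw [win, win, win, ← h1, Subgroup.smul_sup, ← conjS_mul,
    show (g ^ (a + ((l + 1 : ℕ) : ℤ) - (m : ℤ)) * g⁻¹) = g ^ (a + (l : ℤ) - m) by
      rw [← zpow_sub_one]; congr 1; push_cast; ring,
    show a + 1 + (l : ℤ) - m = a + ((l + 1 : ℕ) : ℤ) - (m : ℤ) by push_cast; ring]

theorem le_succ_right (s : Shift P g e m) (a : ℤ) {l : ℕ} (hl : l + 1 ≤ m) :
    win P g m a l ≤ win P g m a (l + 1) := by
  have h := s.inf_succ (a - 1) hl
  rw [sub_add_cancel] at h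
  exact h ▸ inf_le_right

theorem le_succ_left (s : Shift P g e m) (a : ℤ) {l : ℕ} (hl : l + 1 ≤ m) :
    win P g m (a + 1) l ≤ win P g m a (l + 1) :=
  s.inf_succ a hl ▸ inf_le_left

theorem win_mono (s : Shift P g e m) {a a' : ℤ} {l l' : ℕ} (hl : l' ≤ m) (h1 : a' ≤ a)
    (h2 : a + l ≤ a' + l') : win P g m a l ≤ win P g m a' l' := by
  obtain ⟨k, hk⟩ : ∃ k : ℕ, k + l = l' := ⟨l' - l, by omega⟩
  induction k generalizing a a' l' with
  | zero => obtain rfl : a = a' := by omega
            obtain rfl : l = l' := by omega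
            exact le_rfl
  | succ k ih =>
    rcases eq_or_lt_of_le h1 with he | hlt
    · exact (ih (a' := a') (l' := k + l) (by omega) h1 (by omega) rfl).trans
        (show l' = k + l + 1 by omega ▸ s.le_succ_right a' (by omega))
    · exact (ih (a' := a' + 1) (l' := k + l) (by omega) (by omega) (by omega) rfl).trans
        (show l' = k + l + 1 by omega ▸ s.le_succ_left a' (by omega))

theorem seq_mem_one (s : Shift P g e m) (i : ℤ) : seq g e m i ∈ win P g m i 1 := by
  rw [win]
  exact conj_mem_conjS s.e_mem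

theorem seq_mem (s : Shift P g e m) {i a : ℤ} {l : ℕ} (hl : l ≤ m) (h1 : a ≤ i)
    (h2 : i < a + l) : seq g e m i ∈ win P g m a l :=
  s.win_mono hl h1 (by omega) (s.seq_mem_one i)

theorem seq_ne (s : Shift P g e m) (i : ℤ) : seq g e m i ≠ 1 := fun h => s.e_ne (conj_eq_one_iff.1 h)

theorem seq_mul_self (s : Shift P g e m) (i : ℤ) : seq g e m i * seq g e m i = 1 := by
  have h1 := pow_card_eq_one' (x := (⟨_, s.seq_mem_one i⟩ : win P g m i 1))
  rw [s.card_win i s.pos, pow_one, pow_two] at h1
  exact congrArg Subtype.val h1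

theorem seq_inv (s : Shift P g e m) (i : ℤ) : (seq g e m i)⁻¹ = seq g e m i :=
  inv_eq_of_mul_eq_one_right (s.seq_mul_self i)

theorem seq_not_mem_left (s : Shift P g e m) : ∀ {l : ℕ}, l < m → ∀ i : ℤ,
    seq g e m i ∉ win P g m (i + 1) l := by
  intro l
  induction l with
  | zero => intro _ i h; rw [s.win_zero] at h; exact s.seq_ne i h
  | succ l ih =>
    intro hl i h
    refine ih (by omega) i ?_
    rw [← s.inf_succ i hl.le]
    exact ⟨s.seq_mem hl.le le_rfl (by omega), h⟩

theorem seq_not_mem_right (s : Shift P g e m) : ∀ {l : ℕ}, l < m → ∀ a : ℤ,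
    seq g e m (a + l) ∉ win P g m a l := by
  intro l
  induction l with
  | zero => intro _ a h; rw [s.win_zero] at h; exact s.seq_ne _ h
  | succ l ih =>
    intro hl a h
    refine ih (by omega) (a + 1) ?_
    rw [show a + 1 + (l : ℤ) = a + ((l + 1 : ℕ) : ℤ) by push_cast; ring, ← s.inf_succ a hl.le]
    exact ⟨h, s.seq_mem hl.le (by omega) (by omega)⟩

/-- Elements outside a subgroup of half the order differ by a member of it. -/
theorem mul_mem_of_half {A B : Subgroup G} (hle : A ≤ B) (hc : Nat.card B = 2 * Nat.card A)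
    {b z : G} (hb : b ∈ B) (hb' : b ∉ A) (hz : z ∈ B) (hz' : z ∉ A) : b * z ∈ A := by
  have hi : (A.subgroupOf B).index = 2 := by
    have h1 := card_mul_relIndex hle
    rw [hc, mul_comm 2] at h1
    exact Nat.eq_of_mul_eq_mul_left Nat.card_pos h1
  have := Subgroup.mul_mem_iff_of_index_two hi (a := (⟨b, hb⟩ : B)) (b := ⟨z, hz⟩)
  simp only [Subgroup.mem_subgroupOf] at this
  exact this.2 (iff_of_false hb' hz')

theorem cases_left (s : Shift P g e m) {a : ℤ} {l : ℕ} (hl : l + 1 ≤ m) {z : G}
    (hz : z ∈ win P g m a (l + 1)) :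
    z ∈ win P g m (a + 1) l ∨ seq g e m a * z ∈ win P g m (a + 1) l := by
  by_cases h : z ∈ win P g m (a + 1) l
  · exact Or.inl h
  · exact Or.inr (mul_mem_of_half (s.le_succ_left a hl)
      (by rw [s.card_win a hl, s.card_win _ (by omega), pow_succ, mul_comm])
      (s.seq_mem hl le_rfl (by omega)) (s.seq_not_mem_left (by omega) a) hz h)

theorem cases_right (s : Shift P g e m) {a : ℤ} {l : ℕ} (hl : l + 1 ≤ m) {z : G}
    (hz : z ∈ win P g m a (l + 1)) :
    z ∈ win P g m a l ∨ z * seq g e m (a + l) ∈ win P g m a l := by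
  by_cases h : z ∈ win P g m a l
  · exact Or.inl h
  · exact Or.inr (mul_mem_of_half (s.le_succ_right a hl)
      (by rw [s.card_win a hl, s.card_win _ (by omega), pow_succ, mul_comm])
      hz h (s.seq_mem hl (by omega) (by omega)) (s.seq_not_mem_right (by omega) a))

theorem win_le (s : Shift P g e m) : ∀ {l : ℕ}, l ≤ m → ∀ {a : ℤ} {K : Subgroup G},
    (∀ i, a ≤ i → i < a + l → seq g e m i ∈ K) → win P g m a l ≤ K := by
  intro l
  induction l with
  | zero => intro _ a K _; rw [s.win_zero]; exact bot_le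
  | succ l ih =>
    intro hl a K hK z hz
    have hIH := ih (by omega) (a := a + 1) fun i h1 h2 => hK i (by omega) (by omega)
    rcases s.cases_left hl hz with h | h
    · exact hIH h
    · exact (Subgroup.mul_mem_cancel_left K (hK a le_rfl (by omega))).1 (hIH h)

theorem disjoint (s : Shift P g e m) : ∀ {l : ℕ} {a b : ℤ} {k : ℕ}, a + l ≤ b → k ≤ m →
    b + k ≤ a + m → win P g m a l ⊓ win P g m b k = ⊥ := by
  intro l
  induction l with
  | zero => intro a b k _ _ _; rw [s.win_zero, bot_inf_eq]
  | succ l ih =>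
    intro a b k h1 hk h2
    rw [eq_bot_iff]
    rintro z ⟨hz1, hz2⟩
    rcases s.cases_left (by omega) hz1 with h | h
    · rw [← ih (a := a + 1) (b := b) (k := k) (by omega) hk (by omega)]
      exact ⟨h, hz2⟩
    · refine absurd ?_ (s.seq_not_mem_left (show m - 1 < m by have := s.pos; omega) a)
      exact (Subgroup.mul_mem_cancel_right _ (s.win_mono (a' := a + 1) (l' := m - 1) (by omega)
        (by omega) (by omega) hz2)).1 (s.win_mono (by omega) le_rfl (by omega) h)

theorem commute_shift (_s : Shift P g e m) {i j : ℤ} (k : ℤ)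
    (h : Commute (seq g e m i) (seq g e m j)) :
    Commute (seq g e m (i + k)) (seq g e m (j + k)) := by
  rw [← conj_seq g e m k i, ← conj_seq g e m k j]
  exact (Commute.conj_iff _).2 h

theorem conjS_g (_s : Shift P g e m) (a : ℤ) (l : ℕ) :
    MulAut.conj g • win P g m a l = win P g m (a + 1) l := by
  rw [← conjS_win P g m 1 a l, zpow_one]

end Shift

end CfsgLib.DihedralEdge
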